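import Cfsg.Agent.Lib.CharTwoInvol.Standard
import Cfsg.Agent.Lib.Orth.ReflProducts
import Cfsg.Agent.Lib.Orth.MaxSing

/-!
# Involutions in `Omega`: membership and splitting of classes
-/

set_option autoImplicit false

namespace CfsgLib.CharTwoInvol

open Module Matrix CfsgLib.Orth

variable {F : Type*} [Field F] [CharP F 2] [Fintype F] {ι : Type} [Fintype ι] [DecidableEq ι]
variable {Q : QuadraticForm F (ι → F)}

/-- What is used about `Omega`. -/
structure OmegaData (Q : QuadraticForm F (ι → F)) : Prop where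
  index : (Cfsg.Omega F ⇑Q).index = 2
  par : ∀ x : ↥(Cfsg.isometryGroup F ⇑Q), x ^ 2 = 1 → (x ∈ Cfsg.Omega F ⇑Q ↔ Even (CfsgLib.Orth.wrk x.1))

theorem wrk_oInvol (x : ↥(Cfsg.isometryGroup F ⇑Q)) (hx : x ^ 2 = 1) :
    CfsgLib.Orth.wrk x.1 = (oInvol x hx).rank := by
  have : disp x.1 = (oInvol x hx).N := LinearMap.ext fun v => by
    rw [disp_apply, oInvol_N, sub_eq_add_vec (F := F), add_comm]
  rw [CfsgLib.Orth.wrk, moved, this]
  rfl

theorem omegaData (hQ : (QuadraticMap.polarBilin Q).Nondegenerate) (hn : 2 ≤ Fintype.card ι)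
    (hex : Fintype.card F ≠ 2 ∨ Fintype.card ι ≠ 4) : OmegaData Q := by
  have hQ' := nd_of_qf Q hQ
  refine ⟨omega_index_two hQ' hn hex two_eq, fun x _ => ?_⟩
  rw [mem_omega_iff hQ' hn hex]
  have := card_sqClass_two (F := F) two_eq
  haveI := (Nat.card_eq_one_iff_unique.1 this).1
  exact ⟨fun h => h.2, fun h => ⟨Subsingleton.elim _ _, h⟩⟩

theorem OmegaData.mem_iff (h : OmegaData Q) (x : ↥(Cfsg.isometryGroup F ⇑Q)) (hx : x ^ 2 = 1) :
    x ∈ Cfsg.Omega F ⇑Q ↔ Even (oInvol x hx).rank := by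
  rw [h.par x hx, wrk_oInvol x hx]

theorem OmegaData.mul_mem_iff (h : OmegaData Q) (g k : ↥(Cfsg.isometryGroup F ⇑Q)) :
    g * k ∈ Cfsg.Omega F ⇑Q ↔ (g ∈ Cfsg.Omega F ⇑Q ↔ k ∈ Cfsg.Omega F ⇑Q) :=
  Subgroup.mul_mem_iff_of_index_two h.index

theorem exists_nonsingular_fixed (hQ : (QuadraticMap.polarBilin Q).Nondegenerate) {m : ℕ}
    (hm : Fintype.card ι = 2 * m) (x : ↥(Cfsg.isometryGroup F ⇑Q)) (hx : x ^ 2 = 1)
    (hne : ¬ ((oInvol x hx).rank = m ∧ (oInvol x hx).Alt)) :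
    ∃ v, (oInvol x hx).N v = 0 ∧ Q v ≠ 0 := by
  by_contra hc
  push Not at hc
  set I := oInvol x hx
  have hq := isQ_quad Q
  have hle : LinearMap.ker I.N ≤ LinearMap.range I.N := by
    have hiso : ∀ v w, I.N v = 0 → I.N w = 0 → QuadraticMap.polarBilin Q v w = 0 := fun v w hv hw => by
      have h1 := hq.map_add v w
      rw [hc v hv, hc w hw, hc (v + w) (by rw [map_add, hv, hw, add_zero]), add_zero, zero_add] at h1
      exact h1.symm
    have hr : LinearMap.range I.N = LinearMap.BilinForm.orthogonal (QuadraticMap.polarBilin Q) (LinearMap.ker I.N) := by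
      refine Submodule.eq_of_le_of_finrank_le ?_ ?_
      · rintro _ ⟨y, rfl⟩
        exact LinearMap.BilinForm.mem_orthogonal_iff.2 fun v hv => I.ker_iso (LinearMap.mem_ker.1 hv)
      · rw [LinearMap.BilinForm.finrank_orthogonal hQ, I.finrank_ker]
        show _ ≤ I.rank
        omega
    intro v hv
    rw [hr]
    exact LinearMap.BilinForm.mem_orthogonal_iff.2 fun w hw => hiso w v (LinearMap.mem_ker.1 hw) (LinearMap.mem_ker.1 hv)
  have h1 := Submodule.finrank_mono hle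
  rw [I.finrank_ker] at h1
  have hfr : finrank F (ι → F) = 2 * m := by rw [Module.finrank_fintype_fun_eq_card, hm]
  have h2 := I.rank_le hq.alt hQ hfr
  change _ ≤ I.rank at h1
  refine hne ⟨by omega, fun y => ?_⟩
  rw [← oInvol_inv x hx y]
  exact hc _ (I.sq y)

/-- An odd isometry commuting with the involution. -/
theorem exists_odd_commute (hQ : (QuadraticMap.polarBilin Q).Nondegenerate) (h : OmegaData Q)
    {m : ℕ} (hm : Fintype.card ι = 2 * m) (x : ↥(Cfsg.isometryGroup F ⇑Q)) (hx : x ^ 2 = 1)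
    (hne : ¬ ((oInvol x hx).rank = m ∧ (oInvol x hx).Alt)) :
    ∃ r : ↥(Cfsg.isometryGroup F ⇑Q), r ∉ Cfsg.Omega F ⇑Q ∧ r * x = x * r := by
  obtain ⟨v, hv, hQv⟩ := exists_nonsingular_fixed hQ hm x hx hne
  obtain ⟨r, -, hrv⟩ := exists_reflIso hQ hQv
  have hr2 : r ^ 2 = 1 := by rw [pow_two]; exact Subtype.ext (refl_mul_self (nd_of_qf Q hQ) hrv hQv)
  have hw : CfsgLib.Orth.wrk r.1 = 1 := (refl_spn (nd_of_qf Q hQ) r.2 hrv hQv).1
  refine ⟨r, fun hmem => ?_, Subtype.ext (Units.ext (Matrix.ext_iff_mulVec.2 fun y => ?_))⟩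
  · rw [h.par r hr2, hw] at hmem
    exact Nat.not_even_one hmem
  · show (r.1.1 * x.1.1) *ᵥ y = (x.1.1 * r.1.1) *ᵥ y
    have hxv : x.1.1 *ᵥ v = v := by
      rw [oInvol_N, ← sub_eq_add_vec (F := F), sub_eq_zero] at hv
      exact hv
    rw [← Matrix.mulVec_mulVec, ← Matrix.mulVec_mulVec, hrv, hrv, Matrix.mulVec_sub, Matrix.mulVec_smul, hxv]
    congr 3
    conv_lhs => rw [← hxv]
    exact CfsgLib.Classical.polar_isometry x.2 y v

/-- Outside the exceptional class, conjugate elements are conjugate under `Omega`. -/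
theorem exists_omega_conj (hQ : (QuadraticMap.polarBilin Q).Nondegenerate) (h : OmegaData Q)
    {m : ℕ} (hm : Fintype.card ι = 2 * m) (t s : ↥(Cfsg.isometryGroup F ⇑Q)) (ht : t ^ 2 = 1)
    (hne : ¬ ((oInvol t ht).rank = m ∧ (oInvol t ht).Alt)) (hc : IsConj t s) :
    ∃ g ∈ Cfsg.Omega F ⇑Q, g * t * g⁻¹ = s := by
  obtain ⟨g, hg⟩ := isConj_iff.1 hc
  by_cases hgO : g ∈ Cfsg.Omega F ⇑Q
  · exact ⟨g, hgO, hg⟩
  · obtain ⟨r, hr, hrx⟩ := exists_odd_commute hQ h hm t ht hne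
    refine ⟨g * r, (h.mul_mem_iff g r).2 (iff_of_false hgO hr), ?_⟩
    rw [_root_.mul_inv_rev, mul_assoc g r t, hrx, ← hg]
    group

/-- The exceptional classes. -/
theorem exists_omega_conj_iff (hQ : (QuadraticMap.polarBilin Q).Nondegenerate) (h : OmegaData Q)
    (hex : Fintype.card F ≠ 2 ∨ Fintype.card ι ≠ 4) (hn : 2 ≤ Fintype.card ι)
    {m : ℕ} (hm : Fintype.card ι = 2 * m) (hev : Even m) (t s : ↥(Cfsg.isometryGroup F ⇑Q)) (ht : t ^ 2 = 1)
    (hs : s ^ 2 = 1) (hr : (oInvol t ht).rank = m) (ha : (oInvol t ht).Alt) (hc : IsConj t s) :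
    (∃ g ∈ Cfsg.Omega F ⇑Q, g * t * g⁻¹ = s) ↔
      Even (finrank F ↥(LinearMap.range (oInvol t ht).N ⊓ LinearMap.range (oInvol s hs).N)) := by
  set U := LinearMap.range (oInvol t ht).N
  have hU : finrank F U = m := hr
  have hUs : ∀ u ∈ U, Q u = 0 := (oInvol t ht).singular_of_alt (oInvol_inv t ht) ha
  have hmap : ∀ g : ↥(Cfsg.isometryGroup F ⇑Q), g * t * g⁻¹ = s →
      LinearMap.range (oInvol s hs).N = U.map (Matrix.mulVecLin g.1.1) := by
    intro g hg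
    have he : g * t = s * g := by rw [← hg, inv_mul_cancel_right]
    have hcomm : ∀ v, g.1.1 *ᵥ ((oInvol t ht).N v) = (oInvol s hs).N (g.1.1 *ᵥ v) := fun v => by
      rw [oInvol_N, oInvol_N, Matrix.mulVec_add, Matrix.mulVec_mulVec, Matrix.mulVec_mulVec]
      congr 2
      exact congrArg (fun z : ↥(Cfsg.isometryGroup F ⇑Q) => z.1.1) he
    refine le_antisymm ?_ ?_
    · rintro _ ⟨w, rfl⟩
      refine ⟨(oInvol t ht).N ((g⁻¹).1.1 *ᵥ w), ⟨_, rfl⟩, ?_⟩
      rw [Matrix.mulVecLin_apply, hcomm, Matrix.mulVec_mulVec]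
      congr 1
      have h1 : g.1.1 * (g⁻¹).1.1 = 1 := congrArg (fun z : ↥(Cfsg.isometryGroup F ⇑Q) => z.1.1) (mul_inv_cancel g)
      rw [h1, Matrix.one_mulVec]
    · rintro _ ⟨_, ⟨v, rfl⟩, rfl⟩
      exact ⟨g.1.1 *ᵥ v, (hcomm v).symm⟩
  have hcrit : ∀ g : ↥(Cfsg.isometryGroup F ⇑Q), g * t * g⁻¹ = s →
      (g ∈ Cfsg.Omega F ⇑Q ↔ Even (finrank F ↥(U ⊓ LinearMap.range (oInvol s hs).N))) := by
    intro g hg
    have h1 := even_wrk_iff (nd_of_qf Q hQ) hex (by omega : Fintype.card ι = m + m) hU hUs g.2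
    have hgm : g ∈ Cfsg.Omega F ⇑Q ↔ Even (CfsgLib.Orth.wrk g.1) := by
      rw [mem_omega_iff (nd_of_qf Q hQ) hn hex]
      have := card_sqClass_two (F := F) two_eq
      haveI := (Nat.card_eq_one_iff_unique.1 this).1
      exact ⟨fun h => h.2, fun h => ⟨Subsingleton.elim _ _, h⟩⟩
    rw [hgm, ← h1, hmap g hg, Nat.even_sub (hU ▸ Submodule.finrank_mono inf_le_left)]
    exact iff_true_left hev
  constructor
  · rintro ⟨g, hgO, hg⟩
    exact (hcrit g hg).1 hgO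
  · intro he
    obtain ⟨g, hg⟩ := isConj_iff.1 hc
    exact ⟨g, (hcrit g hg).2 he, hg⟩

/-- The centralizer in `Omega` is half the centralizer, except for the exceptional class. -/
theorem card_omega_centralizer (h : OmegaData Q) (x r : ↥(Cfsg.isometryGroup F ⇑Q))
    (hr : r ∉ Cfsg.Omega F ⇑Q) (hrx : r * x = x * r) :
    Nat.card {g : ↥(Cfsg.isometryGroup F ⇑Q) // g * x = x * g} =
      2 * Nat.card {g : ↥(Cfsg.Omega F ⇑Q) // (g : ↥(Cfsg.isometryGroup F ⇑Q)) * x = x * g} := by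
  classical
  haveI : Finite ↥(Cfsg.isometryGroup F ⇑Q) := inferInstance
  let S := {g : ↥(Cfsg.Omega F ⇑Q) // (g : ↥(Cfsg.isometryGroup F ⇑Q)) * x = x * g}
  have hcomm : ∀ g : ↥(Cfsg.isometryGroup F ⇑Q), g * x = x * g ↔ g * r * x = x * (g * r) := fun g => by
    rw [mul_assoc g r x, hrx, ← mul_assoc g x r, ← mul_assoc x g r, mul_left_inj]
  let e : S ⊕ S ≃ {g : ↥(Cfsg.isometryGroup F ⇑Q) // g * x = x * g} :=
    { toFun := fun
        | Sum.inl g => ⟨g.1.1, g.2⟩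
        | Sum.inr g => ⟨g.1.1 * r, (hcomm _).1 g.2⟩
      invFun := fun g => if hg : g.1 ∈ Cfsg.Omega F ⇑Q then Sum.inl ⟨⟨g.1, hg⟩, g.2⟩ else
        Sum.inr ⟨⟨g.1 * r⁻¹, (h.mul_mem_iff _ _).2 (iff_of_false hg fun hh => hr (inv_inv r ▸ inv_mem hh))⟩,
          (hcomm _).2 (by rw [inv_mul_cancel_right]; exact g.2)⟩
      left_inv := fun
        | Sum.inl g => by simp [g.1.2]
        | Sum.inr g => by
          have hnot : g.1.1 * r ∉ Cfsg.Omega F ⇑Q := fun hh => hr (((h.mul_mem_iff _ _).1 hh).1 g.1.2)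
          simp [hnot]
      right_inv := fun g => by
        by_cases hg : g.1 ∈ Cfsg.Omega F ⇑Q <;> simp [hg] }
  rw [← Nat.card_congr e, Nat.card_sum, two_mul]

end CfsgLib.CharTwoInvol
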