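import Cfsg.Agent.Lib.CharTwoInvol.Omega
import Cfsg.Agent.Lib.Classical.SmallOrth
import Cfsg.Agent.Lib.Orth.Sum

/-!
# The minus form: no exceptional involutions, and `Omega` in dimension four over two elements
-/

set_option autoImplicit false

namespace CfsgLib.CharTwoInvol

open Module Matrix CfsgLib.Classical

variable {F : Type*} [Field F] [CharP F 2] [Fintype F]

theorem sum_chi : ∑ x : F, chi x = 0 := by
  obtain ⟨c, hc⟩ := exists_chi_neg (F := F)
  have h := Equiv.sum_comp (Equiv.addRight c) fun x => chi x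
  simp only [Equiv.coe_addRight, chi_add, hc, mul_neg, mul_one, Finset.sum_neg_distrib] at h
  omega

/-- The character sum from the number of singular vectors. -/
theorem gsum_of_count {V : Type*} [AddCommGroup V] [Module F V] [Fintype V] {B : LinearMap.BilinForm F V}
    {Q : V → F} (h : IsQ B Q) :
    ((Fintype.card F : ℤ) - 1) * gsum Q =
      (Fintype.card F : ℤ) * Nat.card {v : V // Q v = 0} - Fintype.card V := by
  classical
  have key : ∀ v : V, ∑ c : F, chi (Q (c • v)) = if Q v = 0 then (Fintype.card F : ℤ) else 0 := by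
    intro v
    split_ifs with hv
    · rw [Finset.sum_congr rfl fun c _ => by rw [h.map_smul, hv, mul_zero, chi_zero]]
      simp
    · have hinj : Function.Injective fun c : F => c * c * Q v := fun a b e => sq_inj (mul_right_cancel₀ hv e)
      rw [Finset.sum_congr rfl fun c _ => by rw [h.map_smul]]
      exact ((Equiv.ofBijective _ ⟨hinj, Finite.surjective_of_injective hinj⟩).sum_comp fun x => chi x).trans sum_chi
  have hrow : ∀ c : F, c ≠ 0 → ∑ v : V, chi (Q (c • v)) = gsum Q := fun c hc =>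
    (LinearEquiv.smulOfNeZero F V c hc).toEquiv.sum_comp fun v => chi (Q v)
  have e1 : ∑ c : F, ∑ v : V, chi (Q (c • v)) = (Fintype.card V : ℤ) + ((Fintype.card F : ℤ) - 1) * gsum Q := by
    rw [← Finset.add_sum_erase _ _ (Finset.mem_univ (0 : F)),
      Finset.sum_congr rfl fun c hc => hrow c (Finset.ne_of_mem_erase hc), Finset.sum_const, nsmul_eq_mul,
      Finset.card_erase_of_mem (Finset.mem_univ _), Finset.card_univ, Nat.cast_sub Fintype.card_pos]
    simp [h.map_zero]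
  have e2 : ∑ c : F, ∑ v : V, chi (Q (c • v)) = (Fintype.card F : ℤ) * Nat.card {v : V // Q v = 0} := by
    rw [Finset.sum_comm, Finset.sum_congr rfl fun v _ => key v, Finset.sum_ite, Finset.sum_const_zero, add_zero,
      Finset.sum_const, nsmul_eq_mul, Nat.card_eq_fintype_card, Fintype.card_subtype, mul_comm]
  linarith

theorem gsum_minus {k : ℕ} {a b : F} (hab : ∀ z₁ z₂ : F, z₁ ^ 2 + a * z₁ * z₂ + b * z₂ ^ 2 = 0 → z₁ = 0 ∧ z₂ = 0)
    [Fintype ((Fin k ⊕ Fin k) ⊕ Fin 2 → F)] :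
    gsum (⇑(minusQ k F a b)) = -((Fintype.card F : ℤ) ^ (k + 1)) := by
  have h := gsum_of_count (isQ_quad (minusQ k F a b))
  have hc := card_sing_minus hab k
  rw [← minusQ_coe] at hc
  rw [hc, ← Nat.card_eq_fintype_card (α := (Fin k ⊕ Fin k) ⊕ Fin 2 → F), Nat.card_fun] at h
  simp only [Nat.card_eq_fintype_card, Fintype.card_sum, Fintype.card_fin] at h
  push_cast at h
  have hq : (1 : ℤ) < Fintype.card F := by exact_mod_cast (Fintype.one_lt_card : 1 < Fintype.card F)
  refine mul_left_cancel₀ (show (Fintype.card F : ℤ) - 1 ≠ 0 by omega) (h.trans ?_)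
  ring

/-- In the minus type there is no involution with a totally singular half as image. -/
theorem minus_not_special {m : ℕ} {a b : F}
    (hab : ∀ z₁ z₂ : F, z₁ ^ 2 + a * z₁ * z₂ + b * z₂ ^ 2 = 0 → z₁ = 0 ∧ z₂ = 0) (hm : 1 ≤ m)
    (t : ↥(Cfsg.isometryGroup F ⇑(minusQ (m - 1) F a b))) (ht : t ^ 2 = 1) (hr : (oInvol t ht).rank = m)
    (ha : (oInvol t ht).Alt) : False := by
  classical
  have hB := minusQ_nondeg hab (m - 1)
  have hq := isQ_quad (minusQ (m - 1) F a b)
  haveI : Fintype (LinearMap.ker (oInvol t ht).N) := Fintype.ofFinite _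
  haveI : Fintype ((Fin (m - 1) ⊕ Fin (m - 1)) ⊕ Fin 2 → F) := Fintype.ofFinite _
  have h1 := gsum_ker_alt hB hq _ (oInvol_inv t ht) ha
  rw [gsum_minus hab] at h1
  have hle : LinearMap.range (oInvol t ht).N ≤ LinearMap.ker (oInvol t ht).N := by
    rintro _ ⟨y, rfl⟩
    exact LinearMap.mem_ker.2 ((oInvol t ht).sq y)
  have heq : LinearMap.range (oInvol t ht).N = LinearMap.ker (oInvol t ht).N :=
    Submodule.eq_of_le_of_finrank_eq hle (by
      rw [(oInvol t ht).finrank_ker]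
      show (oInvol t ht).rank = _
      rw [hr]
      simp; omega)
  rw [Finset.sum_congr rfl fun (v : LinearMap.ker (oInvol t ht).N) _ => by
    rw [(oInvol t ht).singular_of_alt (oInvol_inv t ht) ha v (heq.symm.le v.2), chi_zero]] at h1
  simp at h1
  have : (0 : ℤ) < (Fintype.card F : ℤ) ^ (m - 1 + 1) := pow_pos (by exact_mod_cast Fintype.card_pos) _
  omega

omit [Fintype F] in
theorem embed_plane {ι : Type} [Fintype ι] [DecidableEq ι] [Finite F] (Q : QuadraticForm F (ι → F))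
    (hQ : (QuadraticMap.polarBilin Q).Nondegenerate) (hn : 3 ≤ Fintype.card ι) :
    ∃ P : ↥(Cfsg.isometryGroup F ⇑Q) →* Multiplicative (ZMod 2), ∀ g, P g = 1 ↔ Even (CfsgLib.Orth.wrk g.1) := by
  classical
  haveI := Fintype.ofFinite F
  have hQ' := CfsgLib.Orth.nd_of_qf Q hQ
  have hP := CfsgLib.Orth.nd_of_qf _ (plusQ_nondeg (F := F) 1)
  have hS := CfsgLib.Orth.sumForm_nd hQ' hP
  have hex : Fintype.card F ≠ 2 ∨ Fintype.card (ι ⊕ (Fin 1 ⊕ Fin 1)) ≠ 4 := Or.inr (by simp; omega)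
  let e := CfsgLib.Orth.blockIso (⇑Q) (⇑(plusQ 1 F))
  refine ⟨(CfsgLib.Orth.parHom hS hex).comp (e.comp (MonoidHom.inl _ _)), fun g => ?_⟩
  rw [MonoidHom.comp_apply, CfsgLib.Orth.parHom_eq_one_iff hS hex]
  show Even (CfsgLib.Orth.wrk (CfsgLib.Orth.blockGL (g.1, (1 : GL (Fin 1 ⊕ Fin 1) F)))) ↔ _
  rw [(CfsgLib.Orth.spn_block_left hQ' hP g.2).1]

theorem minus_four_index {a b : F}
    (hab : ∀ z₁ z₂ : F, z₁ ^ 2 + a * z₁ * z₂ + b * z₂ ^ 2 = 0 → z₁ = 0 ∧ z₂ = 0) (h2 : Fintype.card F = 2) :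
    (Cfsg.Omega F ⇑(minusQ 1 F a b)).index = 2 := by
  classical
  have hF : ∀ x : F, x = 0 ∨ x = 1 := fun x => by
    by_contra hc
    push Not at hc
    have : ({0, 1, x} : Finset F).card ≤ 2 := h2 ▸ Finset.card_le_univ _
    rw [Finset.card_eq_three.2 ⟨0, 1, x, zero_ne_one, hc.1.symm, hc.2.symm, rfl⟩] at this
    omega
  have hb : b = 1 := (hF b).resolve_left fun h0 => zero_ne_one ((hab 0 1 (by simp [h0])).2).symm
  have ha : a = 1 := (hF a).resolve_left fun h0 => one_ne_zero (hab 1 1 (by simp [h0, hb, CharTwo.add_self_eq_zero])).1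
  subst ha hb
  let f : ZMod 2 ≃+* F := ZMod.ringEquiv F h2
  let E : ↥(Cfsg.isometryGroup (ZMod 2) (Cfsg.quadFormMinus 1 (ZMod 2) 1 1)) ≃*
      ↥(Cfsg.isometryGroup F ⇑(minusQ 1 F 1 1)) := SmallOrth.isoEquiv f fun v => by
    rw [minusQ_coe]
    simp only [Cfsg.quadFormMinus, map_sum, map_add, map_mul, map_pow, map_one]
  have h2' : ∀ z₁ z₂ : ZMod 2, z₁ ^ 2 + 1 * z₁ * z₂ + 1 * z₂ ^ 2 = 0 → z₁ = 0 ∧ z₂ = 0 := by decide
  obtain ⟨φ, hφ⟩ := SmallOrth.permFive
  have hcard : Nat.card (Equiv.Perm (Fin 5)) =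
      Nat.card ↥(Cfsg.isometryGroup (ZMod 2) (Cfsg.quadFormMinus 1 (ZMod 2) 1 1)) := by
    rw [card_iso_minus h2' 1, Nat.card_perm, Nat.card_eq_fintype_card, ZMod.card]
    simp [Finset.prod_range_succ, Nat.factorial]
  let e5 := (MulEquiv.ofBijective φ
    ((Nat.bijective_iff_injective_and_card φ).2 ⟨hφ, hcard⟩)).trans E
  rw [show (Cfsg.Omega F ⇑(minusQ 1 F 1 1)).index = Nat.card (Abelianization ↥(Cfsg.isometryGroup F ⇑(minusQ 1 F 1 1))) from
    rfl, ← Nat.card_congr e5.abelianizationCongr.toEquiv]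
  show (commutator (Equiv.Perm (Fin 5))).index = 2
  rw [alternatingGroup.commutator_perm_eq (by simp), alternatingGroup.index_eq_two]

/-- `Omega` in the minus type, every dimension and field. -/
theorem omegaData_minus {k : ℕ} {a b : F}
    (hab : ∀ z₁ z₂ : F, z₁ ^ 2 + a * z₁ * z₂ + b * z₂ ^ 2 = 0 → z₁ = 0 ∧ z₂ = 0) :
    OmegaData (minusQ k F a b) := by
  classical
  by_cases h : Fintype.card F ≠ 2 ∨ Fintype.card ((Fin k ⊕ Fin k) ⊕ Fin 2) ≠ 4
  · exact omegaData (minusQ_nondeg hab k) (by simp) h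
  push Not at h
  obtain rfl : k = 1 := by
    have := h.2
    simp at this
    omega
  have hidx := minus_four_index hab h.1
  obtain ⟨P, hP⟩ := embed_plane (minusQ 1 F a b) (minusQ_nondeg hab 1) (by simp)
  refine ⟨hidx, fun x _ => ?_⟩
  have hle : Cfsg.Omega F ⇑(minusQ 1 F a b) ≤ P.ker := Abelianization.commutator_subset_ker P
  have hne : P.ker ≠ ⊤ := by
    have hQv : minusQ 1 F a b (Pi.single (Sum.inr 0) 1) ≠ 0 := by
      rw [minusQ_coe]
      simp [Cfsg.quadFormMinus]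
    obtain ⟨r, -, hrv⟩ := CfsgLib.Orth.exists_reflIso (minusQ_nondeg hab 1) hQv
    intro htop
    have h1 := (hP r).1 (MonoidHom.mem_ker.1 (htop.symm.le (Subgroup.mem_top r)))
    rw [(CfsgLib.Orth.refl_spn (CfsgLib.Orth.nd_of_qf _ (minusQ_nondeg hab 1)) r.2 hrv hQv).1] at h1
    exact Nat.not_even_one h1
  have heq : Cfsg.Omega F ⇑(minusQ 1 F a b) = P.ker := by
    refine le_antisymm hle (Subgroup.relIndex_eq_one.1 ?_)
    have h3 := Subgroup.relIndex_mul_index hle
    rw [hidx] at h3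
    rcases (Nat.dvd_prime Nat.prime_two).1 (Dvd.intro_left _ h3) with h4 | h4
    · exact absurd (Subgroup.index_eq_one.1 h4) hne
    · rw [h4] at h3
      omega
  rw [heq, MonoidHom.mem_ker, hP]

end CfsgLib.CharTwoInvol
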