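import Cfsg.Agent.Lib.CharTwoInvol.Orders

/-!
# Exponent arithmetic for the centralizer formulas
-/

set_option autoImplicit false

namespace CfsgLib.CharTwoInvol

theorem spCard_fin (q k : ℕ) :
    spCard q k = q ^ (k ^ 2) * ∏ i : Fin k, (q ^ (2 * ((i : ℕ) + 1)) - 1) := by
  rw [spCard, Fin.prod_univ_eq_prod_range (fun i => q ^ (2 * (i + 1)) - 1)]

theorem expo {m s : ℕ} (h : s ≤ m) : ∃ u, s * s + s = 2 * u ∧ s * s ≤ m * s ∧ s ≤ s * s ∧
    2 * s * (m - s) + s * (s + 1) / 2 = 2 * (m * s) - 2 * (s * s) + u := by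
  obtain ⟨u, hu⟩ := (Nat.even_mul_succ_self s).two_dvd
  refine ⟨u, by rw [← hu]; ring, Nat.mul_le_mul_right s h, ?_, ?_⟩
  · rcases Nat.eq_zero_or_pos s with h0 | h0
    · simp [h0]
    · exact Nat.le_mul_of_pos_left s h0
  · rw [hu, Nat.mul_div_cancel_left _ two_pos, Nat.mul_sub, Nat.mul_assoc 2 s m, Nat.mul_comm s m, Nat.mul_assoc 2 s s]

theorem expo_sp {m s : ℕ} (h : s ≤ m) :
    2 * m * s - (3 * s ^ 2 - s) / 2 = 2 * s * (m - s) + s * (s + 1) / 2 := by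
  obtain ⟨u, h1, h2, h3, h4⟩ := expo h
  rw [h4, pow_two, Nat.mul_assoc 2 m s]
  omega

theorem expo_sp_even {m s : ℕ} (h : s ≤ m) (hs1 : 1 ≤ s) :
    2 * m * s - (3 * s ^ 2 - 3 * s) / 2 - 1 = (s - 1) + (2 * s * (m - s) + s * (s + 1) / 2) := by
  obtain ⟨u, h1, h2, h3, h4⟩ := expo h
  rw [h4, pow_two, Nat.mul_assoc 2 m s]
  omega

theorem expo_o_odd {m s : ℕ} (h : s ≤ m) (hs1 : 1 ≤ s) :
    2 * m * (s - 1) - (3 * s ^ 2 - 3 * s) / 2 + (2 * m - s) = 2 * s * (m - s) + s * (s + 1) / 2 := by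
  obtain ⟨u, h1, h2, h3, h4⟩ := expo h
  have h5 : m ≤ m * s := Nat.le_mul_of_pos_right m (by omega)
  rw [h4, pow_two, Nat.mul_sub_one, Nat.mul_assoc 2 m s]
  have : s * s + 3 * (s - 1) * 0 = s * s := by simp
  have h6 : s * s + m ≤ m * s + s := by
    obtain ⟨r, rfl⟩ := Nat.exists_eq_add_of_le h
    nlinarith
  omega

theorem expo_o_even {m s : ℕ} (h : s ≤ m) (hs2 : 2 ≤ s) :
    2 * m * (s - 1) - (3 * s ^ 2 - 5 * s) / 2 - 1 + (2 * m - s) =
      (s - 1) + (2 * s * (m - s) + s * (s + 1) / 2) := by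
  obtain ⟨u, h1, h2, h3, h4⟩ := expo h
  have h5 : m ≤ m * s := Nat.le_mul_of_pos_right m (by omega)
  rw [h4, pow_two, Nat.mul_sub_one, Nat.mul_assoc 2 m s]
  have h6 : s * s + m ≤ m * s + s := by
    obtain ⟨r, rfl⟩ := Nat.exists_eq_add_of_le h
    nlinarith
  have h7 : 2 * s ≤ s * s := Nat.mul_le_mul_right s hs2
  omega

theorem expo_o_alt {m s : ℕ} (h : s ≤ m) :
    2 * m * s - (3 * s ^ 2 + s) / 2 + m + (m - s) * (m - s - 1) =
      2 * s * (m - s) + s * (s + 1) / 2 + (m - s) ^ 2 := by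
  obtain ⟨u, h1, h2, h3, h4⟩ := expo h
  have h5 : (m - s) * (m - s - 1) + (m - s) = (m - s) * (m - s) := by
    rcases Nat.eq_zero_or_pos (m - s) with h0 | h0
    · simp [h0]
    · rw [Nat.mul_sub_one]
      have : m - s ≤ (m - s) * (m - s) := Nat.le_mul_of_pos_left _ h0
      omega
  have h6 : s ≤ m * s := le_trans h3 h2
  rw [h4, pow_two, pow_two, Nat.mul_assoc 2 m s]
  omega

end CfsgLib.CharTwoInvol
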