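import Cfsg.Agent.Lib.CharTwoInvol.Models
import Cfsg.Agent.Lib.Classical.QuadOrder

/-!
# The matrix groups `Sp` and `O` as isometry groups
-/

set_option autoImplicit false

namespace CfsgLib.CharTwoInvol

open Module Matrix CfsgLib.Classical.SympCount

variable {F : Type*} [Field F]

theorem sub_eq_add_vec [CharP F 2] {M : Type*} [AddCommGroup M] [Module F M] (a b : M) : a - b = a + b := by
  have h : b + b = 0 := by rw [← two_smul F b, two_eq, zero_smul]
  rw [sub_eq_add_neg, ← eq_neg_of_add_eq_zero_left h]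

section Mat

variable {ι : Type} [Fintype ι] [DecidableEq ι]

/-- Matrices as linear equivalences. -/
noncomputable def glEquiv : GL ι F ≃* ((ι → F) ≃ₗ[F] (ι → F)) :=
  Matrix.GeneralLinearGroup.toLin.trans (LinearMap.GeneralLinearGroup.generalLinearEquiv F (ι → F))

theorem glEquiv_apply (g : GL ι F) (v : ι → F) : glEquiv g v = (g : Matrix ι ι F) *ᵥ v := rfl

/-- The isometry group as a group of linear equivalences. -/
noncomputable def oIso (Q : (ι → F) → F) : ↥(Cfsg.isometryGroup F Q) ≃* ↥(IsoQ (F := F) Q) where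
  toFun g := ⟨glEquiv g.1, fun v => g.2 v v⟩
  invFun e := ⟨glEquiv.symm e.1, fun u _ => by
    show Q ((glEquiv.symm e.1 : GL ι F).1 *ᵥ u) = Q u
    rw [← glEquiv_apply, MulEquiv.apply_symm_apply]
    exact e.2 u⟩
  left_inv g := Subtype.ext (glEquiv.symm_apply_apply g.1)
  right_inv e := Subtype.ext (glEquiv.apply_symm_apply e.1)
  map_mul' a b := Subtype.ext (map_mul glEquiv a.1 b.1)

theorem oIso_apply (Q : (ι → F) → F) (g : ↥(Cfsg.isometryGroup F Q)) (v : ι → F) :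
    (oIso Q g).1 v = (g.1 : Matrix ι ι F) *ᵥ v := rfl

variable [CharP F 2]

theorem isQ_quad (Q : QuadraticForm F (ι → F)) : IsQ (QuadraticMap.polarBilin Q) ⇑Q where
  map_add u v := by
    show _ = Q u + Q v + QuadraticMap.polar Q u v
    rw [QuadraticMap.polar]
    ring
  map_smul c v := by rw [QuadraticMap.map_smul, smul_eq_mul]

theorem rank_sub_one (A : Matrix ι ι F) {N : (ι → F) →ₗ[F] (ι → F)} (h : ∀ v, N v = A *ᵥ v + v) :
    (A - 1).rank = finrank F (LinearMap.range N) := by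
  have : N = (A - 1).mulVecLin := LinearMap.ext fun v => by
    rw [h, Matrix.mulVecLin_apply, Matrix.sub_mulVec, Matrix.one_mulVec, sub_eq_add_vec (F := F)]
  rw [this]
  rfl

variable {Q : QuadraticForm F (ι → F)}

/-- The involution of an element of the isometry group. -/
noncomputable def oInvol (x : ↥(Cfsg.isometryGroup F ⇑Q)) (hx : x ^ 2 = 1) : Invol (QuadraticMap.polarBilin Q) :=
  Invol.ofElem (oIso ⇑Q x).1 (isoQ_le (isQ_quad Q) (oIso ⇑Q x).2)
    (by rw [← Subgroup.coe_mul, ← map_mul, ← pow_two, hx, map_one]; rfl)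

theorem oInvol_N (x : ↥(Cfsg.isometryGroup F ⇑Q)) (hx : x ^ 2 = 1) (v : ι → F) :
    (oInvol x hx).N v = (x.1 : Matrix ι ι F) *ᵥ v + v := rfl

theorem oInvol_rank (x : ↥(Cfsg.isometryGroup F ⇑Q)) (hx : x ^ 2 = 1) :
    ((x.1 : Matrix ι ι F) - 1).rank = (oInvol x hx).rank :=
  rank_sub_one _ (oInvol_N x hx)

theorem oInvol_inv (x : ↥(Cfsg.isometryGroup F ⇑Q)) (hx : x ^ 2 = 1) : (oInvol x hx).Inv ⇑Q :=
  (Invol.ofElem_inv (isQ_quad Q) _ _ _).2 (oIso ⇑Q x).2

theorem oInvol_alt_iff (x : ↥(Cfsg.isometryGroup F ⇑Q)) (hx : x ^ 2 = 1) :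
    (oInvol x hx).Alt ↔ ∀ v, Q (((x.1 : Matrix ι ι F) - 1) *ᵥ v) = 0 := by
  refine forall_congr' fun v => ?_
  rw [← oInvol_inv x hx v, oInvol_N, Matrix.sub_mulVec, Matrix.one_mulVec, sub_eq_add_vec (F := F)]

theorem o_isConj_iff [Finite F] (hQ : (QuadraticMap.polarBilin Q).Nondegenerate) (t s : ↥(Cfsg.isometryGroup F ⇑Q))
    (ht : t ^ 2 = 1) (hs : s ^ 2 = 1) :
    IsConj t s ↔ (oInvol t ht).rank = (oInvol s hs).rank ∧ ((oInvol t ht).Alt ↔ (oInvol s hs).Alt) := by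
  rw [isConj_iff_intertwine (oIso ⇑Q) (isoQ_le (isQ_quad Q)) ht hs, ← conj_iff (isQ_quad Q).alt hQ,
    ← conjQ_iff hQ (isQ_quad Q) _ _ (oInvol_inv t ht) (oInvol_inv s hs)]
  rfl

theorem o_exists (I : Invol (QuadraticMap.polarBilin Q)) (hI : I.Inv ⇑Q) (h0 : I.rank ≠ 0) :
    ∃ (x : ↥(Cfsg.isometryGroup F ⇑Q)) (hx : x ^ 2 = 1), orderOf x = 2 ∧ oInvol x hx = I := by
  let x := (oIso ⇑Q).symm ⟨I.toElem, I.toElem_memQ (isQ_quad Q) hI⟩
  have hxe : oIso ⇑Q x = ⟨I.toElem, I.toElem_memQ (isQ_quad Q) hI⟩ := MulEquiv.apply_symm_apply _ _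
  have hx : x ^ 2 = 1 := (oIso ⇑Q).injective (by
    rw [map_pow, hxe, map_one, pow_two]
    exact Subtype.ext I.toElem_sq)
  refine ⟨x, hx, orderOf_eq_prime hx fun h => I.toElem_ne_one h0 ?_, Invol.ext_N fun v => ?_⟩
  · have := congrArg Subtype.val hxe
    rw [h, map_one] at this
    exact this.symm
  · rw [oInvol_N, ← oIso_apply, hxe]
    show (v + I.N v) + v = I.N v
    rw [add_comm v, add_assoc, ← two_smul F v, two_eq, zero_smul, add_zero]

theorem oInvol_rank_pos (x : ↥(Cfsg.isometryGroup F ⇑Q)) (hx : x ^ 2 = 1) (hne : x ≠ 1) :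
    (oInvol x hx).rank ≠ 0 := by
  intro h
  refine hne (Subtype.ext (Units.ext (Matrix.ext_iff_mulVec.2 fun v => ?_)))
  have hN : (oInvol x hx).N v = 0 := by
    have : LinearMap.range (oInvol x hx).N = ⊥ := Submodule.finrank_eq_zero.1 h
    rw [LinearMap.range_eq_bot] at this
    rw [this]; rfl
  rw [oInvol_N] at hN
  show _ = (1 : Matrix ι ι F) *ᵥ v
  rw [Matrix.one_mulVec]
  have h2 := congrArg (· + v) hN
  simpa [add_assoc, ← two_smul F v, two_eq] using h2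

theorem card_centralizer_o (x : ↥(Cfsg.isometryGroup F ⇑Q)) (hx : x ^ 2 = 1) :
    Nat.card {g : ↥(Cfsg.isometryGroup F ⇑Q) // g * x = x * g} = Nat.card (CentQ (oInvol x hx) ⇑Q) := by
  have hiff : ∀ g : ↥(Cfsg.isometryGroup F ⇑Q), g * x = x * g ↔ (oIso ⇑Q g).1 ∈ Cent (oInvol x hx) := fun g => by
    rw [← (oIso ⇑Q).injective.eq_iff, map_mul, map_mul, Subtype.ext_iff, Subgroup.coe_mul, Subgroup.coe_mul,
      ← mul_inv_eq_iff_eq_mul]
    exact ⟨fun h => ⟨isoQ_le (isQ_quad Q) (oIso ⇑Q g).2, (intertwine_iff _ _ _ _ _ _ _).2 h⟩,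
      fun h => (intertwine_iff _ _ _ _ _ _ _).1 h.2⟩
  refine Nat.card_congr
    { toFun := fun g => ⟨(oIso ⇑Q g.1).1, (hiff _).1 g.2, (oIso ⇑Q g.1).2⟩
      invFun := fun e => ⟨(oIso ⇑Q).symm ⟨e.1, e.2.2⟩, (hiff _).2 (by rw [MulEquiv.apply_symm_apply]; exact e.2.1)⟩
      left_inv := fun g => Subtype.ext ((oIso ⇑Q).symm_apply_apply g.1)
      right_inv := fun e => Subtype.ext (show ((oIso ⇑Q) ((oIso ⇑Q).symm ⟨e.1, e.2.2⟩)).1 = e.1 by
        rw [MulEquiv.apply_symm_apply]) }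

end Mat

section Sp

variable [CharP F 2] {m : ℕ}

local notation "Spm" => Matrix.symplecticGroup (Fin m) F

/-- The involution of an element of the symplectic group. -/
noncomputable def spInvol (t : Spm) (ht : t ^ 2 = 1) : Invol (sB m F) :=
  Invol.ofElem (spIso m t).1 (spIso m t).2
    (by rw [← Subgroup.coe_mul, ← map_mul, ← pow_two, ht, map_one]; rfl)

theorem spInvol_N (t : Spm) (ht : t ^ 2 = 1) (v : Fin m ⊕ Fin m → F) :
    (spInvol t ht).N v = t.1 *ᵥ v + v := by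
  show Matrix.toLin' t.1 v + v = _
  rw [Matrix.toLin'_apply]

theorem spInvol_rank (t : Spm) (ht : t ^ 2 = 1) : (t.1 - 1).rank = (spInvol t ht).rank :=
  rank_sub_one _ (spInvol_N t ht)

theorem spInvol_alt_iff (t : Spm) (ht : t ^ 2 = 1) :
    (spInvol t ht).Alt ↔ ∀ v, Cfsg.sympForm m F v (t.1 *ᵥ v) = 0 := by
  refine forall_congr' fun v => ?_
  rw [spInvol_N, map_add, sB_isAlt v, add_zero]
  rfl

theorem sp_isConj_iff [Finite F] (t s : Spm) (ht : t ^ 2 = 1) (hs : s ^ 2 = 1) :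
    IsConj t s ↔ (spInvol t ht).rank = (spInvol s hs).rank ∧ ((spInvol t ht).Alt ↔ (spInvol s hs).Alt) := by
  rw [isConj_iff_intertwine (spIso m) le_rfl ht hs, ← conj_iff sB_isAlt sB_nondegenerate]
  rfl

theorem sp_exists (I : Invol (sB m F)) (h0 : I.rank ≠ 0) :
    ∃ (t : Spm) (ht : t ^ 2 = 1), orderOf t = 2 ∧ spInvol t ht = I := by
  let t := (spIso m).symm ⟨I.toElem, I.toElem_mem sB_isAlt⟩
  have hte : spIso m t = ⟨I.toElem, I.toElem_mem sB_isAlt⟩ := MulEquiv.apply_symm_apply _ _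
  have ht : t ^ 2 = 1 := (spIso m).injective (by
    rw [map_pow, hte, map_one, pow_two]
    exact Subtype.ext I.toElem_sq)
  refine ⟨t, ht, orderOf_eq_prime ht fun h => I.toElem_ne_one h0 ?_, Invol.ext_N fun v => ?_⟩
  · have := congrArg Subtype.val hte
    rw [h, map_one] at this
    exact this.symm
  · show (spIso m t).1 v + v = _
    rw [hte]
    show (v + I.N v) + v = I.N v
    rw [add_comm v, add_assoc, ← two_smul F v, two_eq, zero_smul, add_zero]

theorem card_centralizer_sp (t : Spm) (ht : t ^ 2 = 1) :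
    Nat.card ↥(Subgroup.centralizer ({t} : Set ↥Spm)) = Nat.card (Cent (spInvol t ht)) := by
  have hiff : ∀ g : Spm, g ∈ Subgroup.centralizer ({t} : Set ↥Spm) ↔ (spIso m g).1 ∈ Cent (spInvol t ht) := fun g => by
    rw [Subgroup.mem_centralizer_singleton_iff, ← (spIso m).injective.eq_iff, map_mul, map_mul, Subtype.ext_iff,
      Subgroup.coe_mul, Subgroup.coe_mul, ← mul_inv_eq_iff_eq_mul]
    exact ⟨fun h => ⟨(spIso m g).2, (intertwine_iff _ _ _ _ _ _ _).2 h⟩,
      fun h => (intertwine_iff _ _ _ _ _ _ _).1 h.2⟩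
  exact Nat.card_congr
    { toFun := fun g => ⟨(spIso m g.1).1, (hiff _).1 g.2⟩
      invFun := fun e => ⟨(spIso m).symm ⟨e.1, e.2.1⟩, (hiff _).2 (by rw [MulEquiv.apply_symm_apply]; exact e.2)⟩
      left_inv := fun g => Subtype.ext ((spIso m).symm_apply_apply g.1)
      right_inv := fun e => Subtype.ext (show ((spIso m) ((spIso m).symm ⟨e.1, e.2.1⟩)).1 = e.1 by
        rw [MulEquiv.apply_symm_apply]) }

end Sp

end CfsgLib.CharTwoInvol
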