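import Cfsg.Agent.Lib.CharTwoInvol.Orders

/-!
# Centralizer orders by type, and the orthogonal centralizer
-/

set_option autoImplicit false

namespace CfsgLib.CharTwoInvol

open Module Matrix

variable {F : Type*} [Field F] [CharP F 2] {V : Type*} [AddCommGroup V] [Module F V]
variable {B : LinearMap.BilinForm F V}

omit [CharP F 2] in
theorem frameOrth_nd (hB : B.Nondegenerate) (I : Invol B) {κ : Type*} [Fintype κ] [DecidableEq κ]
    {G : Matrix κ κ F} {x : κ → V} (p : V →ₗ[F] frameOrth I x) (ho : ∀ (r : frameOrth I x) v, B (r : V) (v - p v) = 0)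
    (u : frameOrth I x) (hu : ∀ v, B.compl₁₂ (frameOrth I x).subtype (frameOrth I x).subtype u v = 0) : u = 0 := by
  refine Subtype.ext (hB.1 _ fun v => ?_)
  rw [← add_sub_cancel (p v : V) v, map_add, ho, add_zero]
  exact hu (p v)

variable [Finite F] [FiniteDimensional F V]

/-- The centralizer from a Gram matrix. -/
theorem card_cent_gram (hA : B.IsAlt) (hB : B.Nondegenerate) {m : ℕ} (hm : finrank F V = 2 * m) (I : Invol B)
    {κ : Type*} [Fintype κ] [DecidableEq κ] {G : Matrix κ κ F} (h : I.HasGram G) :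
    I.rank ≤ m ∧ Nat.card (Cent I) = Nat.card (Iso I.bq) *
      Nat.card F ^ (2 * I.rank * (m - I.rank) + I.rank * (I.rank + 1) / 2) * spCard (Nat.card F) (m - I.rank) := by
  obtain ⟨x, hx⟩ := h.exists_frame hA hB
  have hG := h.isUnit hA hB
  have hc := h.card
  have hr := hx.finrank_orth hG
  rw [hm, hc] at hr
  refine ⟨by omega, ?_⟩
  have hA' : (B.compl₁₂ (frameOrth I x).subtype (frameOrth I x).subtype).IsAlt := fun r => hA (r : V)
  have hnd := frameOrth_nd hB I (hx.proj hG) (G := G) fun r v => by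
    rw [hx.proj_coe, sub_sub_cancel]
    exact orth_frameProj r v
  rw [card_cent hA hB h hx, card_iso_alt hA' hnd (k := m - I.rank) (by omega), hc, hm, ← pow_add,
    Nat.choose_two_right, Nat.add_sub_cancel]
  congr 3
  rw [Nat.mul_comm (I.rank + 1), show 2 * m - 2 * I.rank = 2 * (m - I.rank) by omega]
  ring

theorem Invol.rank_le (hA : B.IsAlt) (hB : B.Nondegenerate) {m : ℕ} (hm : finrank F V = 2 * m) (I : Invol B) :
    I.rank ≤ m := by
  by_cases h : I.Alt
  · obtain ⟨k, -, hg⟩ := I.hasGram_J hA hB h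
    exact (card_cent_gram hA hB hm I hg).1
  · exact (card_cent_gram hA hB hm I (I.hasGram_one hA hB h)).1

omit [Finite F] in
theorem Invol.even_of_alt (hA : B.IsAlt) (hB : B.Nondegenerate) (I : Invol B) (h : I.Alt) : Even I.rank := by
  obtain ⟨k, hk, -⟩ := I.hasGram_J hA hB h
  exact ⟨k, by omega⟩

omit [FiniteDimensional F V] in
theorem card_iso_of_gram_one (I : Invol B) {n : ℕ} (h : I.HasGram (1 : Matrix (Fin n) (Fin n) F)) :
    Nat.card (Iso I.bq) = Nat.card (Iso (dotForm F n)) := by
  obtain ⟨b, hb⟩ := h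
  obtain ⟨e, -, he⟩ := iso_card_eq_of_basis (B' := dotForm F n) b (Pi.basisFun F (Fin n)) fun i j => by
    rw [hb, Pi.basisFun_apply, Pi.basisFun_apply, dotForm, Matrix.toBilin'_single]
  exact Nat.card_congr (Iso.congr e he).toEquiv

theorem card_cent_alt (hA : B.IsAlt) (hB : B.Nondegenerate) {m : ℕ} (hm : finrank F V = 2 * m) (I : Invol B)
    (h : I.Alt) : Nat.card (Cent I) = spCard (Nat.card F) (I.rank / 2) *
      Nat.card F ^ (2 * I.rank * (m - I.rank) + I.rank * (I.rank + 1) / 2) * spCard (Nat.card F) (m - I.rank) := by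
  obtain ⟨k, hk, hg⟩ := I.hasGram_J hA hB h
  rw [(card_cent_gram hA hB hm I hg).2]
  congr 2
  refine card_iso_alt (fun a => ?_) (I.bq_nondegenerate hA hB).1 (by rw [I.finrank_quot]; omega)
  induction a using Submodule.Quotient.induction_on with
  | _ x => exact h x

theorem card_cent_odd (hA : B.IsAlt) (hB : B.Nondegenerate) {m : ℕ} (hm : finrank F V = 2 * m) (I : Invol B)
    (h : Odd I.rank) : Nat.card (Cent I) = spCard (Nat.card F) ((I.rank - 1) / 2) *
      Nat.card F ^ (2 * I.rank * (m - I.rank) + I.rank * (I.rank + 1) / 2) * spCard (Nat.card F) (m - I.rank) := by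
  have hna : ¬ I.Alt := fun ha => Nat.not_even_iff_odd.2 h (I.even_of_alt hA hB ha)
  have hg := I.hasGram_one hA hB hna
  rw [(card_cent_gram hA hB hm I hg).2, card_iso_of_gram_one I hg]
  obtain ⟨k, hk⟩ := h
  congr 2
  rw [hk, card_iso_dot_odd]
  congr 1
  omega

theorem card_cent_even (hA : B.IsAlt) (hB : B.Nondegenerate) {m : ℕ} (hm : finrank F V = 2 * m) (I : Invol B)
    (h : Even I.rank) (hna : ¬ I.Alt) :
    Nat.card (Cent I) = Nat.card F ^ (I.rank - 1) * spCard (Nat.card F) ((I.rank - 2) / 2) *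
      Nat.card F ^ (2 * I.rank * (m - I.rank) + I.rank * (I.rank + 1) / 2) * spCard (Nat.card F) (m - I.rank) := by
  have hg := I.hasGram_one hA hB hna
  rw [(card_cent_gram hA hB hm I hg).2, card_iso_of_gram_one I hg]
  obtain ⟨k, hk⟩ := h
  have hpos : 0 < k := by
    by_contra h0
    have h0' : I.rank = 0 := by omega
    refine hna fun x => ?_
    have : LinearMap.range I.N = ⊥ := Submodule.finrank_eq_zero.1 h0'
    rw [LinearMap.range_eq_bot] at this
    simp [this]
  obtain ⟨k, rfl⟩ : ∃ l, k = l + 1 := ⟨k - 1, by omega⟩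
  congr 2
  rw [show I.rank = 2 * (k + 1) by omega, card_iso_dot_even]
  congr 2
  omega

end CfsgLib.CharTwoInvol
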