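import Cfsg.Agent.Lib.CharTwoInvol.Frame
import Cfsg.Agent.Lib.Classical.SpOrder
import Mathlib.Data.Sym.Sym2.Order

/-!
# The order of the centralizer of an involution in the symplectic group

The centralizer is regular on adapted frames up to the symplectic group of the orthogonal of a frame.
-/

set_option autoImplicit false

namespace CfsgLib.CharTwoInvol

open Module Matrix

variable {F : Type*} [Field F] [CharP F 2] {V : Type*} [AddCommGroup V] [Module F V]
variable {B : LinearMap.BilinForm F V} (I : Invol B) {κ : Type*} [Fintype κ] [DecidableEq κ]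
variable {G : Matrix κ κ F} {x : κ → V}

/-- The centralizer in the isometry group. -/
def Cent : Subgroup (V ≃ₗ[F] V) where
  carrier := {g | g ∈ Iso B ∧ ∀ v, g (I.N v) = I.N (g v)}
  one_mem' := ⟨one_mem _, fun _ => rfl⟩
  mul_mem' := fun {a b} ha hb => ⟨mul_mem ha.1 hb.1, fun v => by
    show a (b (I.N v)) = I.N (a (b v))
    rw [hb.2, ha.2]⟩
  inv_mem' := fun {a} ha => ⟨inv_mem ha.1, fun v => by
    show a.symm (I.N v) = I.N (a.symm v)
    rw [LinearEquiv.symm_apply_eq, ha.2, a.apply_symm_apply]⟩

/-- The orthogonal of a frame and its image. -/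
def frameOrth (x : κ → V) : Submodule F V where
  carrier := {v | ∀ i, B v (x i) = 0 ∧ B v (I.N (x i)) = 0}
  zero_mem' := fun i => by simp
  add_mem' := fun {a b} ha hb i => by simp [(ha i).1, (ha i).2, (hb i).1, (hb i).2]
  smul_mem' := fun c a ha i => by simp [(ha i).1, (ha i).2]

/-- The component of `v` along a frame. -/
noncomputable def frameProj (x : κ → V) (G : Matrix κ κ F) : V →ₗ[F] V where
  toFun v := ∑ k, ((fun j => B v (I.N (x j))) ᵥ* G⁻¹) k • x k + ∑ k, ((fun j => B v (x j)) ᵥ* G⁻¹) k • I.N (x k)
  map_add' u v := by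
    rw [show (fun j => B (u + v) (I.N (x j))) = (fun j => B u (I.N (x j))) + fun j => B v (I.N (x j)) from
        funext fun j => by simp,
      show (fun j => B (u + v) (x j)) = (fun j => B u (x j)) + fun j => B v (x j) from funext fun j => by simp]
    simp only [Matrix.add_vecMul, Pi.add_apply, add_smul, Finset.sum_add_distrib]
    abel
  map_smul' c v := by
    rw [show (fun j => B (c • v) (I.N (x j))) = c • fun j => B v (I.N (x j)) from funext fun j => by simp,
      show (fun j => B (c • v) (x j)) = c • fun j => B v (x j) from funext fun j => by simp]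
    simp only [Matrix.smul_vecMul, Pi.smul_apply, smul_eq_mul, mul_smul, RingHom.id_apply, smul_add, Finset.smul_sum]

variable {I}

theorem vecMul_inv_cancel (hG : IsUnit G) (a : κ → F) (j : κ) : ∑ k, (a ᵥ* G⁻¹) k * G k j = a j := by
  have : (a ᵥ* G⁻¹) ᵥ* G = a := by
    rw [Matrix.vecMul_vecMul, Matrix.nonsing_inv_mul _ ((Matrix.isUnit_iff_isUnit_det G).1 hG), Matrix.vecMul_one]
  exact congrFun this j

theorem Invol.IsFrame.proj_pair (hx : I.IsFrame G x) (hG : IsUnit G) (v : V) (j : κ) :
    B (frameProj I x G v) (x j) = B v (x j) ∧ B (frameProj I x G v) (I.N (x j)) = B v (I.N (x j)) := by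
  constructor
  · show B (∑ k, _ • x k + ∑ k, _ • I.N (x k)) (x j) = _
    simp only [map_add, LinearMap.add_apply, sum_smul_pair, hx.1, mul_zero, Finset.sum_const_zero, zero_add,
      I.adj, hx.2]
    exact vecMul_inv_cancel hG (fun j => B v (x j)) j
  · show B (∑ k, _ • x k + ∑ k, _ • I.N (x k)) (I.N (x j)) = _
    simp only [map_add, LinearMap.add_apply, sum_smul_pair, hx.2, I.range_iso, mul_zero, Finset.sum_const_zero,
      add_zero]
    exact vecMul_inv_cancel hG (fun j => B v (I.N (x j))) j

/-- The projection to the orthogonal of a frame. -/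
noncomputable def Invol.IsFrame.proj (hx : I.IsFrame G x) (hG : IsUnit G) : V →ₗ[F] frameOrth I x :=
  LinearMap.codRestrict _ (LinearMap.id - frameProj I x G) fun v i => by
    simp [(hx.proj_pair hG v i).1, (hx.proj_pair hG v i).2]

theorem Invol.IsFrame.proj_coe (hx : I.IsFrame G x) (hG : IsUnit G) (v : V) :
    ((hx.proj hG v : frameOrth I x) : V) = v - frameProj I x G v := rfl

theorem frameProj_orth {v : V} (hv : v ∈ frameOrth I x) : frameProj I x G v = 0 := by
  show ∑ k, _ • x k + ∑ k, _ • I.N (x k) = 0
  rw [show (fun j => B v (I.N (x j))) = 0 from funext fun j => (hv j).2,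
    show (fun j => B v (x j)) = 0 from funext fun j => (hv j).1]
  simp

theorem Invol.IsFrame.proj_id (hx : I.IsFrame G x) (hG : IsUnit G) (r : frameOrth I x) : hx.proj hG r = r :=
  Subtype.ext (by rw [hx.proj_coe, frameProj_orth r.2, sub_zero])

theorem orth_frameProj (r : frameOrth I x) (v : V) : B (r : V) (frameProj I x G v) = 0 := by
  show B (r : V) (∑ k, _ • x k + ∑ k, _ • I.N (x k)) = 0
  simp [(r.2 _).1, (r.2 _).2]

theorem Invol.IsFrame.proj_frame (hx : I.IsFrame G x) (hG : IsUnit G) (i : κ) :
    hx.proj hG (x i) = 0 ∧ hx.proj hG (I.N (x i)) = 0 := by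
  have h1 : ∀ j, B (hx.proj hG (x i) : V) (x j) = 0 ∧ B (hx.proj hG (x i) : V) (I.N (x j)) = 0 := (hx.proj hG (x i)).2
  have key : ∀ v ∈ Submodule.span F (Set.range (pairs I x)), hx.proj hG v = 0 := by
    intro v hv
    refine Subtype.ext ?_
    rw [hx.proj_coe, Submodule.coe_zero]
    have hw : v - frameProj I x G v ∈ Submodule.span F (Set.range (pairs I x)) := by
      refine Submodule.sub_mem _ hv (Submodule.add_mem _ ?_ ?_) <;>
        refine Submodule.sum_mem _ fun k _ => Submodule.smul_mem _ _ (Submodule.subset_span ?_)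
      · exact ⟨Sum.inl k, rfl⟩
      · exact ⟨Sum.inr k, rfl⟩
    obtain ⟨c, hc⟩ := (Submodule.mem_span_range_iff_exists_fun F).1 hw
    have h2 := (hx.proj hG v).2
    rw [hx.proj_coe, ← hc] at h2
    simp only [Fintype.sum_sum_type, pairs, Sum.elim_inl, Sum.elim_inr] at h2 hc
    have e1 : (fun k => c (Sum.inl k)) = 0 := eq_zero_of_vecMul hG fun j => by
      have := (h2 j).2
      simp only [map_add, LinearMap.add_apply, sum_smul_pair, hx.2, I.range_iso, mul_zero,
        Finset.sum_const_zero, add_zero] at this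
      exact this
    have e2 : (fun k => c (Sum.inr k)) = 0 := eq_zero_of_vecMul hG fun j => by
      have := (h2 j).1
      simp only [map_add, LinearMap.add_apply, sum_smul_pair, hx.1, mul_zero, Finset.sum_const_zero, zero_add,
        I.adj, hx.2] at this
      exact this
    rw [← hc]
    simp [fun k => congrFun e1 k, fun k => congrFun e2 k]
  exact ⟨key _ (Submodule.subset_span ⟨Sum.inl i, rfl⟩), key _ (Submodule.subset_span ⟨Sum.inr i, rfl⟩)⟩

variable [FiniteDimensional F V]

theorem Invol.IsFrame.ker_of_mem (hA : B.IsAlt) (hx : I.IsFrame G x) (hG : IsUnit G) (hc : Fintype.card κ = I.rank)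
    {v : V} (hv : ∀ i, B v (I.N (x i)) = 0) : I.N v = 0 :=
  hx.eq_zero hA hG hc ⟨v, rfl⟩ fun j => by rw [I.symm hA]; exact hv j

theorem Invol.IsFrame.finrank_orth (hx : I.IsFrame G x) (hG : IsUnit G) :
    finrank F (frameOrth I x) + 2 * Fintype.card κ = finrank F V := by
  have hsurj : LinearMap.range (hx.proj hG) = ⊤ := LinearMap.range_eq_top.2 fun r => ⟨r, hx.proj_id hG r⟩
  have hker : LinearMap.ker (hx.proj hG) = Submodule.span F (Set.range (pairs I x)) := by
    refine le_antisymm (fun v hv => ?_) (Submodule.span_le.2 ?_)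
    · have := congrArg Subtype.val (LinearMap.mem_ker.1 hv)
      rw [hx.proj_coe, Submodule.coe_zero, sub_eq_zero] at this
      rw [this]
      refine Submodule.add_mem _ ?_ ?_ <;>
        refine Submodule.sum_mem _ fun k _ => Submodule.smul_mem _ _ (Submodule.subset_span ?_)
      · exact ⟨Sum.inl k, rfl⟩
      · exact ⟨Sum.inr k, rfl⟩
    · rintro _ ⟨i | i, rfl⟩
      · exact (hx.proj_frame hG i).1
      · exact (hx.proj_frame hG i).2
  have h := LinearMap.finrank_range_add_finrank_ker (hx.proj hG)
  rw [hsurj, finrank_top, hker, finrank_span_eq_card (hx.li hG), Fintype.card_sum] at h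
  omega

/-- The stabilizer of a frame in the centralizer. -/
theorem Invol.IsFrame.card_stab (hA : B.IsAlt) (hx : I.IsFrame G x) (hG : IsUnit G) (hc : Fintype.card κ = I.rank) :
    Nat.card {g : Cent I // ∀ i, g.1 (x i) = x i} =
      Nat.card (Iso (B.compl₁₂ (frameOrth I x).subtype (frameOrth I x).subtype)) := by
  have ho : ∀ (r : frameOrth I x) v, B (r : V) (v - hx.proj hG v) = 0 := fun r v => by
    rw [hx.proj_coe, sub_sub_cancel]
    exact orth_frameProj r v
  refine Nat.card_congr ((Equiv.subtypeSubtypeEquivSubtypeInter (fun g => g ∈ Cent I) (fun g => ∀ i, g (x i) = x i)).trans ((Equiv.subtypeEquivRight fun g => ?_).trans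
    (fixEquiv (hx.proj hG) (hx.proj_id hG) ho (fun r v => (comm hA _ _).trans (ho r v)) fun v hv => fun i => ?_)))
  · constructor
    · rintro ⟨⟨hg, hN⟩, hfix⟩
      refine ⟨hg, fun v hv => ?_⟩
      have := congrArg Subtype.val hv
      rw [hx.proj_coe, Submodule.coe_zero, sub_eq_zero] at this
      rw [this]
      show g (∑ k, _ • x k + ∑ k, _ • I.N (x k)) = _
      rw [map_add, map_sum, map_sum]
      refine congr_arg₂ _ (Finset.sum_congr rfl fun k _ => ?_) (Finset.sum_congr rfl fun k _ => ?_)
      · rw [map_smul, hfix]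
      · rw [map_smul, hN, hfix]
    · rintro ⟨hg, hfix⟩
      have hxi : ∀ i, g (x i) = x i := fun i => hfix _ (hx.proj_frame hG i).1
      refine ⟨⟨hg, fun v => ?_⟩, hxi⟩
      have hv : I.N v ∈ LinearMap.range I.N := ⟨v, rfl⟩
      rw [hx.range_eq hG hc] at hv
      obtain ⟨c, hcv⟩ := (Submodule.mem_span_range_iff_exists_fun F).1 hv
      have hfixN : g (I.N v) = I.N v := by
        rw [← hcv, map_sum]
        exact Finset.sum_congr rfl fun k _ => by rw [map_smul, hfix _ (hx.proj_frame hG k).2]
      rw [hfixN]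
      refine sub_eq_zero.1 (hx.eq_zero hA hG hc (Submodule.sub_mem _ ⟨v, rfl⟩ ⟨g v, rfl⟩) fun j => ?_)
      rw [map_sub, sub_eq_zero, ← I.adj, ← I.adj]
      nth_rw 2 [← hfix _ (hx.proj_frame hG j).2]
      rw [hg]
  · constructor
    · have h := hv (x i)
      rwa [(hx.proj_frame hG i).1, Submodule.coe_zero, sub_zero] at h
    · have h := hv (I.N (x i))
      rwa [(hx.proj_frame hG i).2, Submodule.coe_zero, sub_zero] at h

variable [Finite F]

theorem card_triangle {c : κ → κ → F} (hd : ∀ i, c i i = 0) (hs : ∀ i j, c i j = c j i) :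
    Nat.card {a : κ → κ → F // ∀ i j, a i j + a j i = c i j} =
      Nat.card F ^ ((Fintype.card κ + 1).choose 2) := by
  classical
  letI : LinearOrder κ := LinearOrder.lift' (Fintype.equivFin κ) (Fintype.equivFin κ).injective
  let e : {a : κ → κ → F // ∀ i j, a i j + a j i = c i j} ≃ ({p : κ × κ // p.1 ≤ p.2} → F) :=
    { toFun := fun a p => a.1 p.1.1 p.1.2
      invFun := fun f => ⟨fun i j => if h : i ≤ j then f ⟨(i, j), h⟩ else c i j + f ⟨(j, i), le_of_not_ge h⟩, by
        intro i j
        beta_reduce
        rcases lt_trichotomy i j with h | rfl | h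
        · rw [dif_pos h.le, dif_neg h.not_ge, hs j i]
          linear_combination (f ⟨(i, j), h.le⟩) * (two_eq (F := F))
        · rw [dif_pos le_rfl, CharTwo.add_self_eq_zero, hd]
        · rw [dif_neg h.not_ge, dif_pos h.le]
          linear_combination (f ⟨(j, i), h.le⟩) * (two_eq (F := F))⟩
      left_inv := fun a => Subtype.ext (funext fun i => funext fun j => by
        by_cases h : i ≤ j
        · simp [h]
        · simp only [h, dite_false]
          linear_combination (-(a.2 i j)) + (a.1 j i) * (two_eq (F := F)))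
      right_inv := fun f => funext fun p => by simp [p.2] }
  haveI := Fintype.ofFinite F
  rw [Nat.card_congr e, Nat.card_fun, ← Nat.card_congr Sym2.sortEquiv, Nat.card_eq_fintype_card (α := Sym2 κ),
    Sym2.card]

variable (I) (G) in
/-- Frames of a given Gram matrix. -/
def FrameSet : Type _ := {x : κ → V // I.IsFrame G x}

/-- The frames lying over the image of a given one. -/
theorem Invol.IsFrame.card_fibre (hA : B.IsAlt) (hx : I.IsFrame G x) (hG : IsUnit G) (hc : Fintype.card κ = I.rank) :
    Nat.card {y : κ → V // I.IsFrame G y ∧ ∀ i, I.N (y i) = I.N (x i)} =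
      Nat.card F ^ (Fintype.card κ * (finrank F V - 2 * Fintype.card κ)) *
        Nat.card F ^ ((Fintype.card κ + 1).choose 2) := by
  classical
  haveI : Finite V := Module.finite_of_finite F
  set R := frameOrth I x with hR
  let T := Σ r : κ → R, {a : κ → κ → F // ∀ i j, a i j + a j i = B (r i : V) (r j)}
  let cN : (κ → F) → V := fun a => ∑ k, (a ᵥ* G⁻¹) k • I.N (x k)
  have hcN : ∀ a j, B (cN a) (x j) = a j := fun a j => by
    simp only [cN, sum_smul_pair, I.adj, hx.2]
    exact vecMul_inv_cancel hG a j
  have hcNN : ∀ a v, B (cN a) (I.N v) = 0 := fun a v => by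
    simp only [cN, sum_smul_pair, I.range_iso, mul_zero, Finset.sum_const_zero]
  have hcNr : ∀ a (r : R), B (cN a) (r : V) = 0 := fun a r => by
    simp only [cN, sum_smul_pair]
    exact Finset.sum_eq_zero fun k _ => by rw [comm hA, (r.2 k).2, mul_zero]
  have hcNc : ∀ a a', B (cN a) (cN a') = 0 := fun a a' => by
    have : cN a' = ∑ k, (a' ᵥ* G⁻¹) k • I.N (x k) := rfl
    rw [this, map_sum]
    exact Finset.sum_eq_zero fun k _ => by rw [map_smul, hcNN, smul_zero]
  have hNr : ∀ r : R, I.N (r : V) = 0 := fun r => hx.ker_of_mem hA hG hc fun i => (r.2 i).2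
  have hNc : ∀ a, I.N (cN a) = 0 := fun a => by simp [cN, I.sq]
  -- decomposition of a vector of the kernel
  have hdec : ∀ u : V, I.N u = 0 → u = (hx.proj hG u : V) + cN fun j => B u (x j) := by
    intro u hu
    have hfp : frameProj I x G u = cN fun j => B u (x j) := by
      show ∑ k, _ • x k + ∑ k, _ • I.N (x k) = _
      rw [show (fun j => B u (I.N (x j))) = 0 from funext fun j => I.ker_iso hu]
      simp [cN]
    rw [hx.proj_coe, hfp, sub_add_cancel]
  let e : {y : κ → V // I.IsFrame G y ∧ ∀ i, I.N (y i) = I.N (x i)} ≃ T :=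
    { toFun := fun y => ⟨fun i => hx.proj hG (y.1 i - x i), fun i j => B (y.1 i - x i) (x j), fun i j => by
        have hui : ∀ i, I.N (y.1 i - x i) = 0 := fun i => by rw [map_sub, y.2.2, sub_self]
        have h := y.2.1.1 i j
        rw [← add_sub_cancel (x i) (y.1 i), ← add_sub_cancel (x j) (y.1 j), hdec _ (hui i), hdec _ (hui j)] at h
        have e1 : ∀ (r : R) k, B (x k) (r : V) = 0 := fun r k => (comm hA _ _).trans (r.2 k).1
        have e2 : ∀ a k, B (x k) (cN a) = a k := fun a k => (comm hA _ _).trans (hcN a k)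
        have e3 : ∀ a (r : R), B (r : V) (cN a) = 0 := fun a r => (comm hA _ _).trans (hcNr a r)
        simp only [map_add, LinearMap.add_apply, hx.1, e1, e2, (hx.proj hG _).2 _ |>.1, hcN, e3, hcNr, hcNc] at h
        linear_combination h - (B (hx.proj hG (y.1 i - x i) : V) (hx.proj hG (y.1 j - x j) : V)) * (two_eq (F := F))⟩
      invFun := fun t => ⟨fun i => x i + ((t.1 i : V) + cN (t.2.1 i)), ⟨fun i j => by
          have e1 : ∀ (r : R) k, B (x k) (r : V) = 0 := fun r k => (comm hA _ _).trans (r.2 k).1
          have e2 : ∀ a k, B (x k) (cN a) = a k := fun a k => (comm hA _ _).trans (hcN a k)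
          have e3 : ∀ a (r : R), B (r : V) (cN a) = 0 := fun a r => (comm hA _ _).trans (hcNr a r)
          simp only [map_add, LinearMap.add_apply, hx.1, e1, e2, ((t.1 i).2 j).1, hcN, e3, hcNr, hcNc]
          linear_combination (t.2.2 i j) + (B (t.1 i : V) (t.1 j : V)) * (two_eq (F := F)),
        fun i j => by
          simp only [map_add, LinearMap.add_apply, hNr, hNc, add_zero, hx.2, ((t.1 i).2 j).2, hcNN]⟩,
        fun i => by simp only [map_add, hNr, hNc, add_zero]⟩
      left_inv := fun y => Subtype.ext (funext fun i => by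
        have hui : I.N (y.1 i - x i) = 0 := by rw [map_sub, y.2.2, sub_self]
        show x i + ((hx.proj hG (y.1 i - x i) : V) + cN _) = y.1 i
        rw [← hdec _ hui, add_sub_cancel])
      right_inv := fun t => by
        obtain ⟨r, a, ha⟩ := t
        have hp : ∀ i, hx.proj hG (x i + ((r i : V) + cN (a i)) - x i) = r i := fun i => by
          rw [add_sub_cancel_left, map_add, hx.proj_id]
          refine add_eq_left.2 ?_
          simp only [cN, map_sum, map_smul, (hx.proj_frame hG _).2, smul_zero, Finset.sum_const_zero]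
        have hq : ∀ i j, B (x i + ((r i : V) + cN (a i)) - x i) (x j) = a i j := fun i j => by
          rw [add_sub_cancel_left, map_add, LinearMap.add_apply, ((r i).2 j).1, hcN, zero_add]
        refine Sigma.subtype_ext (funext hp) (funext fun i => funext fun j => hq i j) }
  haveI : Fintype (κ → R) := Fintype.ofFinite _
  rw [Nat.card_congr e, Nat.card_sigma, Finset.sum_congr rfl fun r _ =>
    card_triangle (c := fun i j => B (r i : V) (r j)) (fun i => hA _) (fun i j => comm hA _ _),
    Finset.sum_const, smul_eq_mul, Finset.card_univ, ← Nat.card_eq_fintype_card, Nat.card_fun,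
    Module.natCard_eq_pow_finrank (K := F) (V := R), ← pow_mul, Nat.card_eq_fintype_card (α := κ)]
  congr 2
  have := hx.finrank_orth hG
  rw [← hR] at this
  rw [Nat.mul_comm]
  congr 1
  omega

/-- The frames, counted through the bases of the quotient with the same Gram matrix. -/
theorem card_frameSet (hA : B.IsAlt) (hB : B.Nondegenerate) (h : I.HasGram G) :
    Nat.card (FrameSet I G) = Nat.card (Iso I.bq) *
      (Nat.card F ^ (Fintype.card κ * (finrank F V - 2 * Fintype.card κ)) *
        Nat.card F ^ ((Fintype.card κ + 1).choose 2)) := by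
  classical
  haveI : Finite V := Module.finite_of_finite F
  haveI : Finite (V ⧸ LinearMap.ker I.N) := Quotient.finite _
  haveI : Finite (Iso I.bq) := Finite.of_injective (fun g => (g.1 : V ⧸ LinearMap.ker I.N → V ⧸ LinearMap.ker I.N))
    fun a b e => Subtype.ext (LinearEquiv.ext (congrFun e))
  haveI : Fintype (Iso I.bq) := Fintype.ofFinite _
  have hG := h.isUnit hA hB
  have hc := h.card
  obtain ⟨b, hb⟩ := id h
  have hgram : ∀ y : κ → V, I.IsFrame G y → ∀ i j,
      I.bq (Submodule.Quotient.mk (y i)) (Submodule.Quotient.mk (y j)) = G i j := fun y hy i j => hy.2 i j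
  have hbas : ∀ y : κ → V, I.IsFrame G y → LinearIndependent F fun i =>
      (Submodule.Quotient.mk (y i) : V ⧸ LinearMap.ker I.N) := by
    intro y hy
    rw [Fintype.linearIndependent_iff]
    intro c hcs
    refine congrFun (eq_zero_of_vecMul (c := c) hG fun j => ?_)
    have := congrArg (fun v => I.bq v (Submodule.Quotient.mk (y j))) hcs
    simp only [sum_smul_pair, hgram y hy, map_zero, LinearMap.zero_apply] at this
    exact this
  let e : FrameSet I G ≃ Σ g : Iso I.bq, {y : κ → V // I.IsFrame G y ∧
      ∀ i, (Submodule.Quotient.mk (y i) : V ⧸ LinearMap.ker I.N) = g.1 (b i)} :=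
    { toFun := fun y =>
        ⟨⟨b.equiv (basisOfLinearIndependentOfCardEqFinrank' _ (hbas y.1 y.2) (by rw [hc, I.finrank_quot]))
            (Equiv.refl κ), fun u v => by
          refine LinearMap.congr_fun₂ (f := I.bq.compl₁₂ _ _) (LinearMap.ext_basis b b fun i j => ?_) u v
          rw [LinearMap.compl₁₂_apply]
          simp [hb, hgram y.1 y.2]⟩, y.1, y.2, fun i => by simp⟩
      invFun := fun z => ⟨z.2.1, z.2.2.1⟩
      left_inv := fun y => rfl
      right_inv := fun z => by
        obtain ⟨g, y, hy, hyg⟩ := z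
        refine Sigma.subtype_ext (Subtype.ext (b.ext' fun i => ?_)) rfl
        simp [hyg] }
  have hfib : ∀ g : Iso I.bq, Nat.card {y : κ → V // I.IsFrame G y ∧
      ∀ i, (Submodule.Quotient.mk (y i) : V ⧸ LinearMap.ker I.N) = g.1 (b i)} =
      Nat.card F ^ (Fintype.card κ * (finrank F V - 2 * Fintype.card κ)) *
        Nat.card F ^ ((Fintype.card κ + 1).choose 2) := by
    intro g
    choose x hx using fun i => Submodule.Quotient.mk_surjective _ (g.1 (b i))
    obtain ⟨y, hy, hyN⟩ := exists_fix (I := I) hA hG x fun i j => by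
      rw [← I.bq_mk, hx, hx, g.2, hb]
    rw [← hy.card_fibre hA hG hc]
    refine Nat.card_congr (Equiv.subtypeEquivRight fun z => and_congr_right fun _ => forall_congr' fun i => ?_)
    rw [← hx, Submodule.Quotient.eq, LinearMap.mem_ker, map_sub, sub_eq_zero, hyN]
  rw [Nat.card_congr e, Nat.card_sigma, Finset.sum_congr rfl fun g _ => hfib g, Finset.sum_const, smul_eq_mul,
    Finset.card_univ, ← Nat.card_eq_fintype_card]

/-- The centralizer of an involution. -/
theorem card_cent (hA : B.IsAlt) (hB : B.Nondegenerate) (h : I.HasGram G) (hx : I.IsFrame G x) :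
    Nat.card (Cent I) = Nat.card (Iso I.bq) *
      (Nat.card F ^ (Fintype.card κ * (finrank F V - 2 * Fintype.card κ)) *
        Nat.card F ^ ((Fintype.card κ + 1).choose 2)) *
      Nat.card (Iso (B.compl₁₂ (frameOrth I x).subtype (frameOrth I x).subtype)) := by
  classical
  have hG := h.isUnit hA hB
  have hc := h.card
  haveI : Finite V := Module.finite_of_finite F
  haveI : Finite (FrameSet I G) := Subtype.finite
  haveI : Fintype (FrameSet I G) := Fintype.ofFinite _
  haveI : Finite (Cent I) := Finite.of_injective (fun g => (g.1 : V → V))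
    fun a b e => Subtype.ext (LinearEquiv.ext (congrFun e))
  let act : Cent I → FrameSet I G := fun g => ⟨fun i => g.1 (x i), fun i j => by rw [g.2.1]; exact hx.1 i j,
    fun i j => by rw [← g.2.2, g.2.1]; exact hx.2 i j⟩
  have hfib : ∀ y : FrameSet I G, Nat.card {g : Cent I // act g = y} =
      Nat.card {g : Cent I // ∀ i, g.1 (x i) = x i} := by
    intro y
    obtain ⟨c, hcI, hcx, hcN⟩ := exists_move hA hB hG hx y.2 hc hc
    let C : Cent I := ⟨c, hcI, hcN⟩
    exact Nat.card_congr
      { toFun := fun g => ⟨C⁻¹ * g.1, fun i => by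
          show c.symm (g.1.1 (x i)) = x i
          rw [LinearEquiv.symm_apply_eq, hcx]
          exact congrFun (congrArg Subtype.val g.2) i⟩
        invFun := fun g => ⟨C * g.1, Subtype.ext (funext fun i => by
          show c (g.1.1 (x i)) = y.1 i
          rw [g.2, hcx])⟩
        left_inv := fun g => Subtype.ext (mul_inv_cancel_left C g.1)
        right_inv := fun g => Subtype.ext (inv_mul_cancel_left C g.1) }
  rw [← card_frameSet hA hB h, ← hx.card_stab hA hG hc, ← Nat.card_congr (Equiv.sigmaFiberEquiv act), Nat.card_sigma,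
    Finset.sum_congr rfl fun y _ => hfib y, Finset.sum_const, smul_eq_mul, Finset.card_univ,
    ← Nat.card_eq_fintype_card]

end CfsgLib.CharTwoInvol
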