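import Cfsg.Agent.Lib.CharTwoInvol.Plus
import Cfsg.Agent.Lib.CharTwoInvol.Minus

/-!
# Numbers of classes of involutions
-/

set_option autoImplicit false

namespace CfsgLib.CharTwoInvol

open Module Matrix CfsgLib.Classical

/-- Classes counted by a complete invariant. -/
theorem card_classes {G : Type*} [Group G] [Finite G] {τ : Type*} {I : Type} (inv : (g : G) → orderOf g = 2 → τ)
    (hconj : ∀ a b ha hb, IsConj a b ↔ inv a ha = inv b hb) (f : I → τ) (hf : Function.Injective f)
    (hex : ∀ i, ∃ g hg, inv g hg = f i) (hcov : ∀ g hg, ∃ i, inv g hg = f i) :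
    Nat.card {C : ConjClasses G // ∃ g : G, ConjClasses.mk g = C ∧ orderOf g = 2} = Nat.card I := by
  choose rep hrep hinv using hex
  refine (Nat.card_congr (Equiv.ofBijective
    (fun i => (⟨ConjClasses.mk (rep i), rep i, rfl, hrep i⟩ :
      {C : ConjClasses G // ∃ g : G, ConjClasses.mk g = C ∧ orderOf g = 2})) ⟨fun i j h => hf ?_, ?_⟩)).symm
  · rw [← hinv i, ← hinv j, ← hconj]
    exact ConjClasses.mk_eq_mk_iff_isConj.1 (congrArg Subtype.val h)
  · rintro ⟨C, g, rfl, hg⟩
    obtain ⟨i, hi⟩ := hcov g hg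
    exact ⟨i, Subtype.ext (ConjClasses.mk_eq_mk_iff_isConj.2 ((hconj _ _ (hrep i) hg).2 ((hinv i).trans hi.symm)))⟩

/-- Ranks `f` of non-alternating and `g` of alternating type. -/
def typeMap {N K : ℕ} (f : Fin N → ℕ) (g : Fin K → ℕ) : Fin N ⊕ Fin K → ℕ × Prop :=
  Sum.elim (fun i => (f i, False)) fun j => (g j, True)

theorem typeMap_injective {N K : ℕ} {f : Fin N → ℕ} {g : Fin K → ℕ} (hf : Function.Injective f)
    (hg : Function.Injective g) : Function.Injective (typeMap f g) := by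
  rintro (i | i) (j | j) h <;> simp [typeMap, Prod.ext_iff] at h
  · rw [hf h]
  · rw [hg h]

variable {F : Type*} [Field F] [CharP F 2]

section Models

variable {V : Type*} [AddCommGroup V] [Module F V] [FiniteDimensional F V] {B : LinearMap.BilinForm F V} {Q : V → F}

/-- Both kinds of models from a family with a dual family. -/
theorem exists_types (h : IsQ B Q) (hB : B.Nondegenerate) {N K : ℕ} (u : Fin N → V) (e : Fin K → V)
    (hu : LinearIndependent F u) (hue : ∀ i j, B (u i) (u j) = 0) (hQu : ∀ i, Q (u i) = 1)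
    (he : LinearIndependent F e) (hee : ∀ i j, B (e i) (e j) = 0) (hQe : ∀ i, Q (e i) = 0) :
    (∀ s, 1 ≤ s → s ≤ N → ∃ I : Invol B, I.rank = s ∧ ¬ I.Alt ∧ I.Inv Q) ∧
    ∀ k, 2 * k ≤ K → ∃ I : Invol B, I.rank = 2 * k ∧ I.Alt ∧ I.Inv Q := by
  refine ⟨fun s h1 h2 => exists_nonalt h hB h1 (fun i => u (Fin.castLE h2 i)) (hu.comp _ (Fin.castLE_injective h2))
    (fun i j => hue _ _) fun i => hQu _, fun k hk => ?_⟩
  let φ : Fin k ⊕ Fin k → Fin K := fun i => Fin.castLE hk (Fin.cast (two_mul k).symm (finSumFinEquiv i))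
  have hφ : Function.Injective φ := fun a b hab =>
    finSumFinEquiv.injective (Fin.cast_injective _ (Fin.castLE_injective hk hab))
  exact exists_alt h hB (fun i => e (φ i)) (he.comp φ hφ) (fun i j => hee _ _) fun i => hQe _

end Models

variable [Fintype F] {m : ℕ}

omit [Fintype F] in
theorem sB_eq_polar : CfsgLib.Classical.SympCount.sB m F = QuadraticMap.polarBilin (plusQ m F) := by
  refine LinearMap.ext fun u => LinearMap.ext fun v => ?_
  rw [plusQ_polar, SympCount.sB_apply, CfsgLib.Sp.sf_eq]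
  exact Finset.sum_congr rfl fun i _ => by first | ring1 | linear_combination (u (.inl i) * v (.inr i)) * (two_eq (F := F)) | linear_combination -(u (.inl i) * v (.inr i)) * (two_eq (F := F))

theorem plus_types :
    (∀ s, 1 ≤ s → s ≤ m → ∃ I : Invol (QuadraticMap.polarBilin (plusQ m F)),
      I.rank = s ∧ ¬ I.Alt ∧ I.Inv ⇑(plusQ m F)) ∧
    ∀ k, 2 * k ≤ m → ∃ I : Invol (QuadraticMap.polarBilin (plusQ m F)),
      I.rank = 2 * k ∧ I.Alt ∧ I.Inv ⇑(plusQ m F) := by
  classical
  refine exists_types (isQ_quad _) (plusQ_nondeg m)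
    (fun i => Pi.single (Sum.inl i) (1 : F) + Pi.single (Sum.inr i) 1) (fun i => Pi.single (Sum.inl i) 1)
    ?_ (fun i j => ?_) (fun i => ?_) ?_ (fun i j => ?_) fun i => ?_
  · rw [Fintype.linearIndependent_iff]
    intro c hc i
    simpa [Pi.single_apply] using congrFun hc (Sum.inl i)
  · rw [plusQ_polar]
    simp [Pi.single_apply, Finset.sum_add_distrib]
    split_ifs <;> simp_all [CharTwo.add_self_eq_zero]
  · rw [plusQ_coe]
    simp [Cfsg.quadFormPlus, Pi.single_apply]
  · rw [Fintype.linearIndependent_iff]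
    intro c hc i
    simpa [Pi.single_apply] using congrFun hc (Sum.inl i)
  · rw [plusQ_polar]
    simp [Pi.single_apply]
  · rw [plusQ_coe]
    simp [Cfsg.quadFormPlus]

omit [Fintype F] in
theorem minus_polar {n : ℕ} (a b : F) (u v : (Fin n ⊕ Fin n) ⊕ Fin 2 → F) :
    QuadraticMap.polarBilin (minusQ n F a b) u v =
      (∑ i, (u (.inl (.inl i)) * v (.inl (.inr i)) + u (.inl (.inr i)) * v (.inl (.inl i)))) +
        a * (u (.inr 0) * v (.inr 1) + u (.inr 1) * v (.inr 0)) := by
  show QuadraticMap.polar (⇑(minusQ n F a b)) u v = _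
  rw [minusQ_coe]
  simp only [QuadraticMap.polar, Cfsg.quadFormMinus, Pi.add_apply]
  rw [show ∑ i : Fin n, (u (.inl (.inl i)) + v (.inl (.inl i))) * (u (.inl (.inr i)) + v (.inl (.inr i))) =
    (∑ i, u (.inl (.inl i)) * u (.inl (.inr i))) + (∑ i, v (.inl (.inl i)) * v (.inl (.inr i))) +
      ∑ i, (u (.inl (.inl i)) * v (.inl (.inr i)) + u (.inl (.inr i)) * v (.inl (.inl i))) by
    rw [← Finset.sum_add_distrib, ← Finset.sum_add_distrib]
    exact Finset.sum_congr rfl fun i _ => by ring]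
  linear_combination (u (.inr 0) * v (.inr 0) + b * (u (.inr 1) * v (.inr 1))) * (two_eq (F := F))

theorem minus_types {n : ℕ} {a b : F}
    (hab : ∀ z₁ z₂ : F, z₁ ^ 2 + a * z₁ * z₂ + b * z₂ ^ 2 = 0 → z₁ = 0 ∧ z₂ = 0) :
    (∀ s, 1 ≤ s → s ≤ n + 1 → ∃ I : Invol (QuadraticMap.polarBilin (minusQ n F a b)),
      I.rank = s ∧ ¬ I.Alt ∧ I.Inv ⇑(minusQ n F a b)) ∧
    ∀ k, 2 * k ≤ n → ∃ I : Invol (QuadraticMap.polarBilin (minusQ n F a b)),
      I.rank = 2 * k ∧ I.Alt ∧ I.Inv ⇑(minusQ n F a b) := by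
  classical
  refine exists_types (isQ_quad _) (minusQ_nondeg hab n)
    (Fin.snoc (fun i => Pi.single (Sum.inl (Sum.inl i)) (1 : F) + Pi.single (Sum.inl (Sum.inr i)) 1)
      (Pi.single (Sum.inr 0) 1)) (fun i => Pi.single (Sum.inl (Sum.inl i)) 1)
    ?_ (fun i j => ?_) (fun i => ?_) ?_ (fun i j => ?_) fun i => ?_
  · rw [Fintype.linearIndependent_iff]
    intro c hc i
    induction i using Fin.lastCases with
    | last => simpa [Fin.sum_univ_castSucc, Pi.single_apply] using congrFun hc (Sum.inr 0)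
    | cast i => simpa [Fin.sum_univ_castSucc, Pi.single_apply] using congrFun hc (Sum.inl (Sum.inl i))
  · rw [minus_polar]
    induction i using Fin.lastCases <;> induction j using Fin.lastCases <;>
      simp [Pi.single_apply, Finset.sum_add_distrib]
    split_ifs <;> simp_all [CharTwo.add_self_eq_zero]
  · rw [minusQ_coe]
    induction i using Fin.lastCases <;> simp [Cfsg.quadFormMinus, Pi.single_apply]
  · rw [Fintype.linearIndependent_iff]
    intro c hc i
    simpa [Pi.single_apply] using congrFun hc (Sum.inl (Sum.inl i))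
  · rw [minus_polar]
    simp [Pi.single_apply]
  · rw [minusQ_coe]
    simp [Cfsg.quadFormMinus]

/-- The invariant of an element of the orthogonal group. -/
noncomputable def oType {ι : Type} [Fintype ι] [DecidableEq ι] {Q : QuadraticForm F (ι → F)}
    (g : ↥(Cfsg.isometryGroup F ⇑Q)) (hg : orderOf g = 2) : ℕ × Prop :=
  ((oInvol g (pow_two_of_order hg)).rank, (oInvol g (pow_two_of_order hg)).Alt)

theorem oType_cover {ι : Type} [Fintype ι] [DecidableEq ι] {Q : QuadraticForm F (ι → F)}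
    (hQ : (QuadraticMap.polarBilin Q).Nondegenerate) {m : ℕ} (hm : Fintype.card ι = 2 * m)
    (g : ↥(Cfsg.isometryGroup F ⇑Q)) (hg : g ^ 2 = 1) (hne : g ≠ 1) :
    1 ≤ (oInvol g hg).rank ∧ (oInvol g hg).rank ≤ m ∧
      ((oInvol g hg).Alt → ∃ k, 1 ≤ k ∧ (oInvol g hg).rank = 2 * k) := by
  have h1 := oInvol_rank_pos g hg hne
  refine ⟨by omega, (oInvol g hg).rank_le (isQ_quad Q).alt hQ (by rw [Module.finrank_fintype_fun_eq_card, hm]),
    fun ha => ?_⟩
  obtain ⟨k, hk⟩ := (oInvol g hg).even_of_alt (isQ_quad Q).alt hQ ha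
  exact ⟨k, by omega, by omega⟩

theorem ne_one_of_order {G : Type*} [Monoid G] {g : G} (h : orderOf g = 2) : g ≠ 1 := fun e => by
  rw [e, orderOf_one] at h
  exact absurd h (by omega)

/-- The classes of an orthogonal group. -/
theorem count_o {ι : Type} [Fintype ι] [DecidableEq ι] {Q : QuadraticForm F (ι → F)}
    (hQ : (QuadraticMap.polarBilin Q).Nondegenerate) {m : ℕ} (hm : Fintype.card ι = 2 * m) (K : ℕ)
    (hN : ∀ s, 1 ≤ s → s ≤ m → ∃ I : Invol (QuadraticMap.polarBilin Q), I.rank = s ∧ ¬ I.Alt ∧ I.Inv ⇑Q)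
    (hK : ∀ k, 1 ≤ k → k ≤ K → ∃ I : Invol (QuadraticMap.polarBilin Q), I.rank = 2 * k ∧ I.Alt ∧ I.Inv ⇑Q)
    (hbd : ∀ g : ↥(Cfsg.isometryGroup F ⇑Q), ∀ hg : g ^ 2 = 1, (oInvol g hg).Alt → (oInvol g hg).rank ≤ 2 * K + 1) :
    Nat.card {C : ConjClasses ↥(Cfsg.isometryGroup F ⇑Q) //
      ∃ g : ↥(Cfsg.isometryGroup F ⇑Q), ConjClasses.mk g = C ∧ orderOf g = 2} = m + K := by
  classical
  refine (card_classes oType (fun a b ha hb => ?_) (typeMap (fun i : Fin m => (i : ℕ) + 1) fun j : Fin K => 2 * ((j : ℕ) + 1))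
    (typeMap_injective (fun i j h => Fin.ext (by simpa using h)) fun i j h => Fin.ext (by simpa using h)) ?_ fun g hg => ?_).trans (by simp)
  · rw [o_isConj_iff hQ a b (pow_two_of_order ha) (pow_two_of_order hb)]
    simp [oType, Prod.ext_iff]
  · rintro (i | j)
    · obtain ⟨I, hr, hna, hI⟩ := hN (i + 1) (by omega) (by omega)
      obtain ⟨x, hx, hx2, rfl⟩ := o_exists I hI (by omega)
      exact ⟨x, hx2, by simp [oType, typeMap, hr, hna]⟩
    · obtain ⟨I, hr, ha, hI⟩ := hK (j + 1) (by omega) (by omega)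
      obtain ⟨x, hx, hx2, rfl⟩ := o_exists I hI (by omega)
      exact ⟨x, hx2, by simp [oType, typeMap, hr, ha]⟩
  · obtain ⟨h1, h2, h3⟩ := oType_cover hQ hm g (pow_two_of_order hg) (ne_one_of_order hg)
    by_cases ha : (oInvol g (pow_two_of_order hg)).Alt
    · obtain ⟨k, hk1, hk⟩ := h3 ha
      have := hbd g (pow_two_of_order hg) ha
      refine ⟨Sum.inr ⟨k - 1, by omega⟩, ?_⟩
      simp [oType, typeMap, ha, hk]
      omega
    · refine ⟨Sum.inl ⟨(oInvol g (pow_two_of_order hg)).rank - 1, by omega⟩, ?_⟩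
      simp [oType, typeMap, ha]
      omega

/-- The classes of the symplectic group. -/
theorem count_sp :
    Nat.card {C : ConjClasses ↥(Matrix.symplecticGroup (Fin m) F) //
      ∃ g : Matrix.symplecticGroup (Fin m) F, ConjClasses.mk g = C ∧ orderOf g = 2} = m + m / 2 := by
  classical
  have hA := SympCount.sB_isAlt (F := F) (m := m)
  have hB := SympCount.sB_nondegenerate (F := F) (m := m)
  have hT := plus_types (F := F) (m := m)
  rw [← sB_eq_polar] at hT
  obtain ⟨hN, hK⟩ := hT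
  refine (card_classes (fun g hg => ((spInvol g (pow_two_of_order hg)).rank, (spInvol g (pow_two_of_order hg)).Alt))
    (fun a b ha hb => ?_) (typeMap (fun i : Fin m => (i : ℕ) + 1) fun j : Fin (m / 2) => 2 * ((j : ℕ) + 1))
    (typeMap_injective (fun i j h => Fin.ext (by simpa using h)) fun i j h => Fin.ext (by simpa using h)) ?_ fun g hg => ?_).trans (by simp)
  · rw [sp_isConj_iff a b (pow_two_of_order ha) (pow_two_of_order hb)]
    simp [Prod.ext_iff]
  · rintro (i | j)
    · obtain ⟨I, hr, hna, -⟩ := hN (i + 1) (by omega) (by omega)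
      obtain ⟨x, hx, hx2, rfl⟩ := sp_exists I (by omega)
      exact ⟨x, hx2, by simp [typeMap, hr, hna]⟩
    · obtain ⟨I, hr, ha, -⟩ := hK (j + 1) (by omega)
      obtain ⟨x, hx, hx2, rfl⟩ := sp_exists I (by omega)
      exact ⟨x, hx2, by simp [typeMap, hr, ha]⟩
  · have hg2 := pow_two_of_order hg
    have h2 := (spInvol g hg2).rank_le hA hB finrank_two_m
    have h1 : (spInvol g hg2).rank ≠ 0 := fun h0 => by
      refine ne_one_of_order hg ((spIso m).injective (Subtype.ext (LinearEquiv.ext fun v => ?_)))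
      have hN0 : (spInvol g hg2).N v = 0 := by
        have : LinearMap.range (spInvol g hg2).N = ⊥ := Submodule.finrank_eq_zero.1 h0
        rw [LinearMap.range_eq_bot] at this
        rw [this]; rfl
      rw [map_one]
      show (spIso m g).1 v = v
      have hN1 : (spIso m g).1 v + v = 0 := hN0
      rw [← sub_eq_add_vec (F := F), sub_eq_zero] at hN1
      exact hN1
    by_cases ha : (spInvol g hg2).Alt
    · obtain ⟨k, hk⟩ := (spInvol g hg2).even_of_alt hA hB ha
      refine ⟨Sum.inr ⟨k - 1, by omega⟩, ?_⟩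
      simp [typeMap, ha, hk]
      omega
    · refine ⟨Sum.inl ⟨(spInvol g hg2).rank - 1, by omega⟩, ?_⟩
      simp [typeMap, ha]
      omega

end CfsgLib.CharTwoInvol
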