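import Mathlib

/-!
# Quadratic forms in characteristic two: polar forms, the trace character and its sums
-/

set_option autoImplicit false

namespace CfsgLib.CharTwoInvol

open Module

variable {F : Type*} [Field F] [CharP F 2]

theorem two_eq : (2 : F) = 0 := CharTwo.two_eq_zero

theorem sq_inj {a b : F} (h : a * a = b * b) : a = b := by
  have : (a + b) * (a + b) = 0 := by linear_combination h + (a * b + b * b) * (two_eq (F := F))
  exact CharTwo.add_eq_zero.1 (mul_self_eq_zero.1 this)

theorem exists_sqrt [Finite F] (c : F) : ∃ r : F, r * r = c := by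
  obtain ⟨r, hr⟩ := FiniteField.isSquare_of_char_two (F := F) (ringChar.eq F 2) c
  exact ⟨r, hr.symm⟩

/-- The image of `r ↦ r² + r`. -/
def asGroup (F : Type*) [Field F] [CharP F 2] : AddSubgroup F :=
  (AddMonoidHom.mk' (fun r : F => r * r + r) fun a b => by
    linear_combination (a * b) * (two_eq (F := F))).range

theorem mem_asGroup {x : F} : x ∈ asGroup F ↔ ∃ r, r * r + r = x := Iff.rfl

theorem asGroup_index [Finite F] : (asGroup F).index = 2 := by
  classical
  let f : F →+ F := AddMonoidHom.mk' (fun r : F => r * r + r) fun a b => by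
    linear_combination (a * b) * (two_eq (F := F))
  have hk : Nat.card f.ker = 2 := by
    have hk' : (f.ker : Set F) = {0, 1} := by
      ext x
      simp only [SetLike.mem_coe, AddMonoidHom.mem_ker, Set.mem_insert_iff, Set.mem_singleton_iff]
      change x * x + x = 0 ↔ _
      rw [show x * x + x = x * (x + 1) by ring, mul_eq_zero, CharTwo.add_eq_zero]
    rw [← SetLike.coe_sort_coe, hk', Nat.card_coe_set_eq, Set.ncard_pair zero_ne_one]
  have h1 := f.ker.card_mul_index
  have h2 := f.range.card_mul_index
  rw [AddSubgroup.index_ker, hk] at h1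
  change f.range.index = 2
  have hpos : 0 < Nat.card f.range := Nat.card_pos
  nlinarith

open Classical in
/-- The character of `F` with kernel the image of `r ↦ r² + r`. -/
noncomputable def chi (x : F) : ℤ := if x ∈ asGroup F then 1 else -1

theorem chi_eq_one_iff {x : F} : chi x = 1 ↔ ∃ r, r * r + r = x := by
  unfold chi
  split_ifs with h
  · simpa using mem_asGroup.1 h
  · simpa using fun r hr => h ⟨r, hr⟩

theorem chi_sq (x : F) : chi x * chi x = 1 := by
  unfold chi
  split_ifs <;> rfl

@[simp] theorem chi_zero : chi (0 : F) = 1 := if_pos (asGroup F).zero_mem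

theorem chi_add [Finite F] (x y : F) : chi (x + y) = chi x * chi y := by
  have h := AddSubgroup.add_mem_iff_of_index_two (asGroup_index (F := F)) (a := x) (b := y)
  unfold chi
  by_cases hx : x ∈ asGroup F <;> by_cases hy : y ∈ asGroup F <;> simp_all

theorem exists_chi_neg [Finite F] : ∃ x : F, chi x = -1 := by
  by_contra h
  push Not at h
  have : (asGroup F) = ⊤ := eq_top_iff.2 fun x _ => by
    by_contra hx
    exact h x (if_neg hx)
  have h2 := asGroup_index (F := F)
  rw [this, AddSubgroup.index_top] at h2
  omega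

theorem chi_mul_self [Finite F] (y : F) : chi (y * y) = chi y := by
  have h : chi (y * y + y) = 1 := chi_eq_one_iff.2 ⟨y, rfl⟩
  rw [chi_add] at h
  linear_combination (chi y) * h - chi (y * y) * chi_sq y

variable {V : Type*} [AddCommGroup V] [Module F V]

/-- A quadratic function with polar form `B`. -/
structure IsQ (B : LinearMap.BilinForm F V) (Q : V → F) : Prop where
  map_add : ∀ u v, Q (u + v) = Q u + Q v + B u v
  map_smul : ∀ (c : F) v, Q (c • v) = c * c * Q v

variable {B : LinearMap.BilinForm F V} {Q Q' : V → F}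

theorem IsQ.map_zero (h : IsQ B Q) : Q 0 = 0 := by
  simpa using h.map_smul 0 0

theorem IsQ.alt (h : IsQ B Q) : B.IsAlt := fun v => by
  have h1 := h.map_add v v
  rw [← two_smul F v, two_eq, zero_smul, h.map_zero, CharTwo.add_self_eq_zero (Q v), zero_add] at h1
  exact h1.symm

theorem comm (hA : B.IsAlt) (x y : V) : B x y = B y x := by
  rw [← hA.neg_eq y x, CharTwo.neg_eq]

/-- The translate of `Q` by a vector. -/
def shift (B : LinearMap.BilinForm F V) (Q : V → F) (a : V) : V → F := fun v => Q v + B a v * B a v

theorem IsQ.shift (h : IsQ B Q) (a : V) : IsQ B (shift B Q a) where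
  map_add u v := by
    simp only [CharTwoInvol.shift, h.map_add, _root_.map_add]
    linear_combination (B a u * B a v) * (two_eq (F := F))
  map_smul c v := by
    simp only [CharTwoInvol.shift, h.map_smul, _root_.map_smul, smul_eq_mul]
    ring

theorem shift_injective (hB : B.Nondegenerate) (Q : V → F) : Function.Injective (shift B Q) := by
  intro a b h
  refine sub_eq_zero.1 (hB.1 _ fun v => ?_)
  have := congrFun h v
  simp only [CharTwoInvol.shift, add_right_inj] at this
  rw [map_sub, LinearMap.sub_apply, sub_eq_zero]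
  exact sq_inj this

theorem exists_shift [Finite F] [FiniteDimensional F V] (hB : B.Nondegenerate) (h : IsQ B Q) (h' : IsQ B Q') :
    ∃ a, Q' = shift B Q a := by
  choose sq hsq using exists_sqrt (F := F)
  let l : V →ₗ[F] F :=
    { toFun := fun v => sq (Q' v + Q v)
      map_add' := fun u v => sq_inj (by
        rw [hsq, h.map_add, h'.map_add]
        linear_combination -(hsq (Q' u + Q u)) - hsq (Q' v + Q v) +
          (B u v - sq (Q' u + Q u) * sq (Q' v + Q v)) * (two_eq (F := F)))
      map_smul' := fun c v => sq_inj (by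
        rw [hsq, h.map_smul, h'.map_smul, RingHom.id_apply, smul_eq_mul]
        linear_combination -(c * c) * hsq (Q' v + Q v)) }
  refine ⟨(B.toDual hB).symm l, funext fun v => ?_⟩
  show Q' v = Q v + B _ v * B _ v
  rw [LinearMap.BilinForm.apply_toDual_symm_apply]
  show Q' v = Q v + sq _ * sq _
  rw [hsq]
  linear_combination -(Q v) * (two_eq (F := F))

variable (Q) in
/-- The sum of the character over the values of `Q`. -/
noncomputable def gsum [Fintype V] : ℤ := ∑ v, chi (Q v)

variable [Finite F] [Fintype V]

theorem sum_chi_linear {W : Submodule F V} [Fintype W] {v : V} (hv : ∃ u ∈ W, B v u ≠ 0) :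
    ∑ u : W, chi (B v (u : V)) = 0 := by
  obtain ⟨c, hc⟩ := exists_chi_neg (F := F)
  obtain ⟨u, hu, hne⟩ := hv
  set u₀ : W := ⟨(c / B v u) • u, W.smul_mem _ hu⟩
  have hu₀ : B v (u₀ : V) = c := by simp [u₀, div_mul_cancel₀ _ hne]
  have h := Equiv.sum_comp (Equiv.addRight u₀) fun w : W => chi (B v (w : V))
  simp only [Equiv.coe_addRight, Submodule.coe_add, _root_.map_add, chi_add, hu₀, hc, mul_neg, mul_one,
    Finset.sum_neg_distrib] at h
  omega

open Classical in
theorem gsum_eq_sum_perp (h : IsQ B Q) (W : Submodule F V) (hW : ∀ u ∈ W, Q u = 0) (P : Submodule F V)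
    (hP : ∀ v, v ∈ P ↔ ∀ u ∈ W, B v u = 0) : gsum Q = ∑ v : P, chi (Q (v : V)) := by
  haveI : Fintype W := Fintype.ofFinite _
  have key : ∀ v : V, ∑ u : W, chi (B v (u : V)) = if v ∈ P then (Fintype.card W : ℤ) else 0 := by
    intro v
    split_ifs with hv
    · rw [Finset.sum_congr rfl fun (u : W) _ => by rw [(hP v).1 hv u u.2, chi_zero]]
      simp
    · refine sum_chi_linear ?_
      by_contra hc
      push Not at hc
      exact hv ((hP v).2 hc)
  have h1 : ∑ u : W, ∑ v : V, chi (Q (v + u)) = (Fintype.card W : ℤ) * gsum Q := by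
    have hu : ∀ u : W, ∑ v : V, chi (Q (v + u)) = gsum Q := fun u =>
      Equiv.sum_comp (Equiv.addRight (u : V)) fun v => chi (Q v)
    rw [Finset.sum_congr rfl fun u _ => hu u]
    simp
  have h2 : ∑ u : W, ∑ v : V, chi (Q (v + u)) = (Fintype.card W : ℤ) * ∑ v : P, chi (Q (v : V)) := by
    rw [Finset.sum_comm]
    have : ∀ v : V, ∑ u : W, chi (Q (v + u)) = chi (Q v) * ∑ u : W, chi (B v (u : V)) := by
      intro v
      rw [Finset.mul_sum]
      refine Finset.sum_congr rfl fun u _ => ?_
      rw [h.map_add, hW u u.2, add_zero, chi_add]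
    rw [Finset.sum_congr rfl fun v _ => (this v).trans (by rw [key v, mul_ite, mul_zero]), Finset.sum_ite,
      Finset.sum_const_zero, add_zero, ← Finset.sum_mul, mul_comm,
      Finset.sum_subtype _ (p := fun v => v ∈ P) (fun v => by simp)]
  exact Int.eq_of_mul_eq_mul_left (by exact_mod_cast Fintype.card_ne_zero) (h1.symm.trans h2)

theorem gsum_sq (hB : B.Nondegenerate) (h : IsQ B Q) : gsum Q * gsum Q = Fintype.card V := by
  classical
  have key : ∀ w : V, ∑ v : V, chi (B v w) = if w = 0 then (Fintype.card V : ℤ) else 0 := by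
    intro w
    split_ifs with hw
    · subst hw
      simp
    · obtain ⟨c, hc⟩ := exists_chi_neg (F := F)
      obtain ⟨u, hu⟩ : ∃ u, B u w ≠ 0 := by
        by_contra hcon
        push Not at hcon
        exact hw (hB.2 w hcon)
      have h0 := Equiv.sum_comp (Equiv.addRight ((c / B u w) • u)) fun v => chi (B v w)
      simp only [Equiv.coe_addRight, _root_.map_add, _root_.map_smul, LinearMap.add_apply, LinearMap.smul_apply,
        smul_eq_mul, div_mul_cancel₀ _ hu, chi_add, hc, mul_neg, mul_one, Finset.sum_neg_distrib] at h0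
      omega
  rw [gsum, Finset.sum_mul, Finset.sum_congr rfl fun v _ => (Finset.mul_sum _ _ _).trans
    ((Equiv.sum_comp (Equiv.addLeft v) fun u => chi (Q v) * chi (Q u)).symm)]
  rw [Finset.sum_comm]
  have : ∀ w : V, ∑ v : V, chi (Q v) * chi (Q (v + w)) = chi (Q w) * ∑ v : V, chi (B v w) := by
    intro w
    rw [Finset.mul_sum]
    refine Finset.sum_congr rfl fun v _ => ?_
    rw [h.map_add, chi_add, chi_add]
    linear_combination (chi (Q w) * chi (B v w)) * chi_sq (Q v)
  simp only [Equiv.coe_addLeft]
  rw [Finset.sum_congr rfl fun w _ => (this w).trans (by rw [key w, mul_ite, mul_zero]), Finset.sum_ite_eq',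
    if_pos (Finset.mem_univ _), h.map_zero, chi_zero, one_mul]

theorem gsum_shift (h : IsQ B Q) (a : V) : gsum (shift B Q a) = chi (Q a) * gsum Q := by
  have : ∀ v, chi (shift B Q a v) = chi (Q a) * chi (Q (v + a)) := by
    intro v
    rw [CharTwoInvol.shift, chi_add, chi_mul_self, h.map_add, chi_add, chi_add, comm h.alt v a]
    linear_combination -(chi (Q v) * chi (B a v)) * chi_sq (Q a)
  rw [gsum, Finset.sum_congr rfl fun v _ => this v, ← Finset.mul_sum]
  congr 1
  exact Equiv.sum_comp (Equiv.addRight a) fun v => chi (Q v)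

end CfsgLib.CharTwoInvol
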