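import Cfsg.Agent.Lib.CharTwoInvol.Iso
import Cfsg.Agent.Lib.Classical.SympSplit
import Cfsg.Agent.S2622

/-!
# Involutions of symplectic spaces in characteristic two: adapted frames and conjugacy

An involution `t` is given by `N = t + 1`. An adapted frame is a family `x` of pairwise orthogonal
vectors with `B (x i) (N (x j)) = G i j`, where `G` is the Gram matrix of the form induced on `V / ker N`.
-/

set_option autoImplicit false

namespace CfsgLib.CharTwoInvol

open Module

variable {F : Type*} [Field F] [CharP F 2] {V : Type*} [AddCommGroup V] [Module F V]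

/-- An involutive isometry `1 + N`. -/
structure Invol (B : LinearMap.BilinForm F V) where
  /-- the nilpotent part -/
  N : V →ₗ[F] V
  sq : ∀ x, N (N x) = 0
  adj : ∀ x y, B (N x) y = B x (N y)

variable {B : LinearMap.BilinForm F V} (I : Invol B) {κ : Type*}

/-- The rank of `N`. -/
noncomputable def Invol.rank : ℕ := finrank F (LinearMap.range I.N)

/-- The induced form is alternating. -/
def Invol.Alt : Prop := ∀ x, B x (I.N x) = 0

theorem Invol.symm (hA : B.IsAlt) (x y : V) : B x (I.N y) = B y (I.N x) := by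
  rw [← I.adj, comm hA]

theorem Invol.range_iso (x y : V) : B (I.N x) (I.N y) = 0 := by rw [I.adj, I.sq, map_zero]

theorem Invol.ker_iso {x y : V} (h : I.N x = 0) : B x (I.N y) = 0 := by
  rw [← I.adj, h, map_zero, LinearMap.zero_apply]

/-- `N` on the quotient by its kernel. -/
noncomputable def Invol.N' : (V ⧸ LinearMap.ker I.N) →ₗ[F] V := (LinearMap.ker I.N).liftQ I.N le_rfl

/-- The induced symmetric form on `V / ker N`. -/
noncomputable def Invol.bq : LinearMap.BilinForm F (V ⧸ LinearMap.ker I.N) :=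
  (LinearMap.ker I.N).liftQ (B.compl₂ I.N') fun x hx => LinearMap.ext fun y => by
    induction y using Submodule.Quotient.induction_on with
    | _ y => exact I.ker_iso (LinearMap.mem_ker.1 hx)

theorem Invol.bq_mk (x y : V) :
    I.bq (Submodule.Quotient.mk x) (Submodule.Quotient.mk y) = B x (I.N y) := rfl

theorem Invol.bq_symm (hA : B.IsAlt) : I.bq.IsSymm :=
  ⟨fun a b => by
    induction a using Submodule.Quotient.induction_on with
    | _ x =>
      induction b using Submodule.Quotient.induction_on with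
      | _ y => exact I.symm hA x y⟩

theorem Invol.bq_nondegenerate (hA : B.IsAlt) (hB : B.Nondegenerate) : I.bq.Nondegenerate := by
  have h1 : ∀ a, (∀ b, I.bq a b = 0) → a = 0 := by
    intro a
    induction a using Submodule.Quotient.induction_on with
    | _ x =>
      intro h
      refine (Submodule.Quotient.mk_eq_zero _).2 (LinearMap.mem_ker.2 (hB.1 _ fun y => ?_))
      rw [I.adj]
      exact h (Submodule.Quotient.mk y)
  exact ⟨h1, fun b hb => h1 b fun a => ((I.bq_symm hA).eq b a).trans (hb a)⟩

variable [FiniteDimensional F V]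

theorem Invol.finrank_quot : finrank F (V ⧸ LinearMap.ker I.N) = I.rank :=
  I.N.quotKerEquivRange.finrank_eq

/-- The Gram matrix of the induced form in some basis. -/
def Invol.HasGram (G : Matrix κ κ F) : Prop :=
  ∃ b : Basis κ F (V ⧸ LinearMap.ker I.N), ∀ i j, I.bq (b i) (b j) = G i j

theorem Invol.hasGram_one [Finite F] (hA : B.IsAlt) (hB : B.Nondegenerate) (hna : ¬ I.Alt) :
    I.HasGram (1 : Matrix (Fin I.rank) (Fin I.rank) F) := by
  obtain ⟨b, hb⟩ := Cfsg.Agent.S2622.result I.finrank_quot I.bq (I.bq_symm hA) (I.bq_nondegenerate hA hB) (by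
    simp only [Invol.Alt, not_forall] at hna
    obtain ⟨x, hx⟩ := hna
    exact ⟨Submodule.Quotient.mk x, hx⟩)
  exact ⟨b, fun i j => by rw [hb, Matrix.one_apply]⟩

theorem Invol.hasGram_J (hA : B.IsAlt) (hB : B.Nondegenerate) (ha : I.Alt) :
    ∃ k, I.rank = 2 * k ∧ I.HasGram (Matrix.J (Fin k) F) := by
  classical
  have hqA : I.bq.IsAlt := fun a => by
    induction a using Submodule.Quotient.induction_on with
    | _ x => exact ha x
  have hn := I.bq_nondegenerate hA hB
  obtain ⟨m, r, b, -, -, -, hb4⟩ := Classical.Alt.exists_sympBasis _ rfl I.bq hqA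
  have hr : r = 0 := by
    by_contra hr
    exact b.ne_zero (Sum.inr ⟨0, Nat.pos_of_ne_zero hr⟩) (hn.1 _ (hb4 _))
  have hm : I.rank = 2 * m := by
    rw [← I.finrank_quot, Module.finrank_eq_card_basis b]
    simp [hr]
    omega
  obtain ⟨c, hc⟩ := Classical.SympSplit.exists_basis_J I.bq hqA hn.1 (I.finrank_quot.trans hm)
  exact ⟨m, hm, c, hc⟩

/-- An adapted family of vectors. -/
def Invol.IsFrame (G : Matrix κ κ F) (x : κ → V) : Prop :=
  (∀ i j, B (x i) (x j) = 0) ∧ ∀ i j, B (x i) (I.N (x j)) = G i j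

variable {I} [Fintype κ] {G : Matrix κ κ F} {x : κ → V}

omit [FiniteDimensional F V] in
/-- The coefficient of a combination read off by pairing. -/
theorem sum_smul_pair (f : κ → V) (c : κ → F) (y : V) :
    B (∑ k, c k • f k) y = ∑ k, c k * B (f k) y := by
  rw [map_sum, LinearMap.sum_apply]
  exact Finset.sum_congr rfl fun k _ => by rw [map_smul, LinearMap.smul_apply, smul_eq_mul]

omit [FiniteDimensional F V] in
theorem exists_fix [DecidableEq κ] (hA : B.IsAlt) (hG : IsUnit G) (x : κ → V)
    (hx : ∀ i j, B (x i) (I.N (x j)) = G i j) :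
    ∃ y, I.IsFrame G y ∧ ∀ i, I.N (y i) = I.N (x i) := by
  classical
  obtain ⟨ord⟩ : Nonempty (LinearOrder κ) := ⟨LinearOrder.lift' (Fintype.equivFin κ) (Fintype.equivFin κ).injective⟩
  letI := ord
  let a : Matrix κ κ F := Matrix.of fun i j => if i < j then B (x i) (x j) else 0
  let c := a * G⁻¹
  let u : κ → V := fun i => ∑ k, c i k • I.N (x k)
  have hu : ∀ i j, B (u i) (x j) = a i j := fun i j => by
    have hc : c * G = a := by
      rw [Matrix.mul_assoc, Matrix.nonsing_inv_mul _ ((Matrix.isUnit_iff_isUnit_det G).1 hG), Matrix.mul_one]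
    rw [sum_smul_pair, ← hc, Matrix.mul_apply]
    exact Finset.sum_congr rfl fun k _ => by rw [I.adj, hx]
  have huN : ∀ i v, B (u i) (I.N v) = 0 := fun i v => by
    rw [sum_smul_pair]
    exact Finset.sum_eq_zero fun k _ => by rw [I.range_iso, mul_zero]
  have huu : ∀ i j, B (u i) (u j) = 0 := fun i j => by
    have : u j = ∑ k, c j k • I.N (x k) := rfl
    rw [this, map_sum]
    exact Finset.sum_eq_zero fun k _ => by rw [map_smul, huN, smul_zero]
  have hN : ∀ i, I.N (x i + u i) = I.N (x i) := fun i => by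
    rw [map_add, show u i = ∑ k, c i k • I.N (x k) from rfl, map_sum]
    simp [I.sq]
  refine ⟨fun i => x i + u i, ⟨fun i j => ?_, fun i j => ?_⟩, hN⟩
  · show B (x i + u i) (x j + u j) = 0
    simp only [map_add, LinearMap.add_apply]
    rw [huu, comm hA (x i) (u j), hu, hu]
    rcases lt_trichotomy i j with h | rfl | h
    · simp [a, h, h.not_gt, CharTwo.add_self_eq_zero]
    · simp [a, hA (x i)]
    · simp [a, h, h.not_gt, comm hA (x j) (x i), CharTwo.add_self_eq_zero]
  · show B (x i + u i) (I.N (x j + u j)) = G i j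
    rw [hN, map_add, LinearMap.add_apply, huN, hx, add_zero]

theorem Invol.HasGram.isUnit [DecidableEq κ] (hA : B.IsAlt) (hB : B.Nondegenerate) (h : I.HasGram G) :
    IsUnit G := by
  obtain ⟨b, hb⟩ := h
  have hG : G = LinearMap.BilinForm.toMatrix b I.bq :=
    Matrix.ext fun i j => (hb i j).symm.trans (LinearMap.BilinForm.toMatrix_apply b I.bq i j).symm
  rw [hG, Matrix.isUnit_iff_isUnit_det, isUnit_iff_ne_zero]
  exact (LinearMap.BilinForm.nondegenerate_iff_det_ne_zero b).1 (I.bq_nondegenerate hA hB)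

theorem Invol.HasGram.card (h : I.HasGram G) : Fintype.card κ = I.rank := by
  obtain ⟨b, -⟩ := h
  rw [← I.finrank_quot, Module.finrank_eq_card_basis b]

theorem Invol.HasGram.exists_frame [DecidableEq κ] (hA : B.IsAlt) (hB : B.Nondegenerate) (h : I.HasGram G) :
    ∃ x, I.IsFrame G x := by
  obtain ⟨b, hb⟩ := h
  choose x hx using fun i => Submodule.Quotient.mk_surjective _ (b i)
  obtain ⟨y, hy, -⟩ := exists_fix (I := I) hA (Invol.HasGram.isUnit hA hB ⟨b, hb⟩) x fun i j => by
    rw [← hb, ← hx, ← hx, I.bq_mk]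
  exact ⟨y, hy⟩

/-- The frame together with its image. -/
def pairs (I : Invol B) (x : κ → V) : κ ⊕ κ → V := Sum.elim x fun i => I.N (x i)

omit [FiniteDimensional F V] in
theorem eq_zero_of_vecMul [DecidableEq κ] (hG : IsUnit G) {c : κ → F} (h : ∀ j, ∑ k, c k * G k j = 0) : c = 0 := by
  refine Matrix.vecMul_injective_of_isUnit hG ?_
  show Matrix.vecMul c G = Matrix.vecMul 0 G
  rw [Matrix.zero_vecMul]
  exact funext h

omit [FiniteDimensional F V] in
theorem Invol.IsFrame.li [DecidableEq κ] (hx : I.IsFrame G x) (hG : IsUnit G) :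
    LinearIndependent F (pairs I x) := by
  rw [Fintype.linearIndependent_iff]
  intro c hc
  simp only [Fintype.sum_sum_type, pairs, Sum.elim_inl, Sum.elim_inr] at hc
  have h1 : (fun k => c (Sum.inl k)) = 0 := eq_zero_of_vecMul hG fun j => by
    have := congrArg (fun v => B v (I.N (x j))) hc
    simp only [map_add, LinearMap.add_apply, sum_smul_pair, map_zero, LinearMap.zero_apply, hx.2, I.range_iso,
      mul_zero, Finset.sum_const_zero, add_zero] at this
    exact this
  have h2 : (fun k => c (Sum.inr k)) = 0 := eq_zero_of_vecMul hG fun j => by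
    have := congrArg (fun v => B v (x j)) hc
    simp only [map_add, LinearMap.add_apply, sum_smul_pair, map_zero, LinearMap.zero_apply, hx.1,
      mul_zero, Finset.sum_const_zero, zero_add, I.adj, hx.2] at this
    exact this
  rintro (k | k)
  · exact congrFun h1 k
  · exact congrFun h2 k

theorem Invol.IsFrame.range_eq [DecidableEq κ] (hx : I.IsFrame G x) (hG : IsUnit G)
    (hc : Fintype.card κ = I.rank) : LinearMap.range I.N = Submodule.span F (Set.range fun i => I.N (x i)) := by
  refine (Submodule.eq_of_le_of_finrank_le (Submodule.span_le.2 ?_) ?_).symm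
  · rintro _ ⟨i, rfl⟩
    exact ⟨x i, rfl⟩
  · have hli : LinearIndependent F fun i => I.N (x i) := (hx.li hG).comp Sum.inr Sum.inr_injective
    rw [finrank_span_eq_card hli, hc]
    rfl

/-- A vector of the image is determined by its products with the frame. -/
theorem Invol.IsFrame.eq_zero [DecidableEq κ] (hA : B.IsAlt) (hx : I.IsFrame G x) (hG : IsUnit G)
    (hc : Fintype.card κ = I.rank) {w : V} (hw : w ∈ LinearMap.range I.N) (h : ∀ j, B (x j) w = 0) :
    w = 0 := by
  rw [hx.range_eq hG hc] at hw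
  obtain ⟨c, rfl⟩ := (Submodule.mem_span_range_iff_exists_fun F).1 hw
  have : c = 0 := eq_zero_of_vecMul hG fun j => by
    have h1 := h j
    rw [comm hA, sum_smul_pair] at h1
    rw [← h1]
    exact Finset.sum_congr rfl fun k _ => by rw [I.adj, hx.2]
  simp [this]

/-- Extension of a map between frames. -/
theorem exists_move [DecidableEq κ] (hA : B.IsAlt) (hB : B.Nondegenerate) {I' : Invol B} {x' : κ → V}
    (hG : IsUnit G) (hx : I.IsFrame G x) (hx' : I'.IsFrame G x') (hc : Fintype.card κ = I.rank)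
    (hc' : Fintype.card κ = I'.rank) :
    ∃ g ∈ Iso B, (∀ i, g (x i) = x' i) ∧ ∀ v, g (I.N v) = I'.N (g v) := by
  classical
  have hl := hx.li hG
  have hl' := hx'.li hG
  let b := Basis.span hl
  let f : Submodule.span F (Set.range (pairs I x)) →ₗ[F] V := b.constr F (pairs I' x')
  have hinj : Function.Injective f := by
    refine (injective_iff_map_eq_zero f).2 fun z hz => ?_
    rw [Basis.constr_apply_fintype] at hz
    have h0 := Fintype.linearIndependent_iff.1 hl' _ hz
    exact b.equivFun.injective (funext fun i => by rw [h0 i, map_zero]; rfl)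
  have hgram : ∀ i j, B (pairs I x i) (pairs I x j) = B (pairs I' x' i) (pairs I' x' j) := by
    rintro (i | i) (j | j) <;> simp only [pairs, Sum.elim_inl, Sum.elim_inr]
    · rw [hx.1, hx'.1]
    · rw [hx.2, hx'.2]
    · rw [I.adj, I'.adj, hx.2, hx'.2]
    · rw [I.range_iso, I'.range_iso]
  have hiso : ∀ z z', B (f z) (f z') = B (z : V) z' := by
    have : B.compl₁₂ f f = B.compl₁₂ (Submodule.span F (Set.range (pairs I x))).subtype
        (Submodule.span F (Set.range (pairs I x))).subtype := by
      refine LinearMap.ext_basis b b fun i j => ?_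
      rw [LinearMap.compl₁₂_apply, LinearMap.compl₁₂_apply, Basis.constr_basis, Basis.constr_basis]
      simp [Basis.span_apply, hgram i j, b]
    exact fun z z' => LinearMap.congr_fun₂ this z z'
  obtain ⟨g, hg, hgf⟩ := Classical.Alt.witt hB hA _ f hinj hiso
  have hgp : ∀ i, g (pairs I x i) = pairs I' x' i := fun i => by
    refine (hgf ⟨pairs I x i, Submodule.subset_span ⟨i, rfl⟩⟩).trans ?_
    rw [show (⟨pairs I x i, Submodule.subset_span ⟨i, rfl⟩⟩ : Submodule.span F (Set.range (pairs I x))) = b i from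
      Subtype.ext (by simp [b, Basis.span_apply]), Basis.constr_basis]
  have h1 : ∀ i, g (x i) = x' i := fun i => hgp (Sum.inl i)
  have h2 : ∀ i, g (I.N (x i)) = I'.N (x' i) := fun i => hgp (Sum.inr i)
  refine ⟨g, hg, h1, fun v => sub_eq_zero.1 (hx'.eq_zero hA hG hc' (Submodule.sub_mem _ ?_ ⟨g v, rfl⟩) fun j => ?_)⟩
  · have hv : I.N v ∈ LinearMap.range I.N := ⟨v, rfl⟩
    rw [hx.range_eq hG hc] at hv
    obtain ⟨c, hcv⟩ := (Submodule.mem_span_range_iff_exists_fun F).1 hv
    rw [← hcv, map_sum]
    exact Submodule.sum_mem _ fun i _ => by rw [map_smul, h2]; exact Submodule.smul_mem _ _ ⟨x' i, rfl⟩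
  · rw [map_sub, sub_eq_zero, ← h1, hg, ← I.adj, ← hg, h2, h1, ← I'.adj]

/-- Two involutions with the same Gram matrix are conjugate. -/
theorem exists_conj_of_gram [DecidableEq κ] (hA : B.IsAlt) (hB : B.Nondegenerate) {I' : Invol B}
    (h : I.HasGram G) (h' : I'.HasGram G) : ∃ g ∈ Iso B, ∀ v, g (I.N v) = I'.N (g v) := by
  obtain ⟨x, hx⟩ := h.exists_frame hA hB
  obtain ⟨x', hx'⟩ := h'.exists_frame hA hB
  obtain ⟨g, hg, -, hN⟩ := exists_move hA hB (h.isUnit hA hB) hx hx' h.card h'.card
  exact ⟨g, hg, hN⟩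

/-- The classification: the rank and whether the induced form alternates. -/
theorem conj_iff [Finite F] (hA : B.IsAlt) (hB : B.Nondegenerate) (I I' : Invol B) :
    (∃ g ∈ Iso B, ∀ v, g (I.N v) = I'.N (g v)) ↔ I.rank = I'.rank ∧ (I.Alt ↔ I'.Alt) := by
  constructor
  · rintro ⟨g, hg, hN⟩
    constructor
    · refine le_antisymm ?_ ?_
      · refine le_trans (le_of_eq (LinearEquiv.finrank_map_eq g _).symm) (Submodule.finrank_mono ?_)
        rintro _ ⟨_, ⟨v, rfl⟩, rfl⟩
        exact ⟨g v, (hN v).symm⟩
      · refine le_trans (le_of_eq (LinearEquiv.finrank_map_eq g.symm _).symm) (Submodule.finrank_mono ?_)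
        rintro _ ⟨_, ⟨v, rfl⟩, rfl⟩
        refine ⟨g.symm v, (LinearEquiv.eq_symm_apply g).2 ?_⟩
        rw [hN, g.apply_symm_apply]
    · refine ⟨fun h v => ?_, fun h v => ?_⟩
      · obtain ⟨w, rfl⟩ := g.surjective v
        rw [← hN, hg]
        exact h w
      · rw [← hg v, hN]
        exact h (g v)
  · rintro ⟨hr, ha⟩
    by_cases h : I.Alt
    · obtain ⟨k, hk, h1⟩ := I.hasGram_J hA hB h
      obtain ⟨k', hk', h2⟩ := I'.hasGram_J hA hB (ha.1 h)
      obtain rfl : k = k' := by omega
      exact exists_conj_of_gram hA hB h1 h2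
    · have h1 := I.hasGram_one hA hB h
      have h2 := I'.hasGram_one hA hB (mt ha.2 h)
      rw [← hr] at h2
      exact exists_conj_of_gram hA hB h1 h2

end CfsgLib.CharTwoInvol
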