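import Cfsg.Agent.Lib.CharTwoInvol.Forms

/-!
# Isometry groups of bilinear forms: transport and fixing a complement
-/

set_option autoImplicit false

namespace CfsgLib.CharTwoInvol

open Module

variable {F : Type*} [Field F] {V : Type*} [AddCommGroup V] [Module F V]
variable {V' : Type*} [AddCommGroup V'] [Module F V']

/-- The isometries of a bilinear form. -/
def Iso (B : LinearMap.BilinForm F V) : Subgroup (V ≃ₗ[F] V) where
  carrier := {g | ∀ u v, B (g u) (g v) = B u v}
  one_mem' := fun _ _ => rfl
  mul_mem' := fun {a b} ha hb u v => (ha (b u) (b v)).trans (hb u v)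
  inv_mem' := fun {a} ha u v => by
    have h := ha (a.symm u) (a.symm v)
    rw [a.apply_symm_apply, a.apply_symm_apply] at h
    exact h.symm

/-- The linear maps preserving a function. -/
def IsoQ (Q : V → F) : Subgroup (V ≃ₗ[F] V) where
  carrier := {g | ∀ v, Q (g v) = Q v}
  one_mem' := fun _ => rfl
  mul_mem' := fun {a b} ha hb v => (ha (b v)).trans (hb v)
  inv_mem' := fun {a} ha v => by
    have h := ha (a.symm v)
    rw [a.apply_symm_apply] at h
    exact h.symm

theorem isoQ_le {B : LinearMap.BilinForm F V} {Q : V → F} [CharP F 2] (h : IsQ B Q) : IsoQ Q ≤ Iso B := fun g hg u v => by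
  have h1 := h.map_add (g u) (g v)
  rw [← _root_.map_add, hg, h.map_add, hg, hg, add_right_inj] at h1
  exact h1.symm

/-- Isometry groups of isometric forms. -/
def Iso.congr {B : LinearMap.BilinForm F V} {B' : LinearMap.BilinForm F V'} (e : V ≃ₗ[F] V')
    (h : ∀ u v, B' (e u) (e v) = B u v) : Iso B ≃* Iso B' where
  toFun g := ⟨(e.symm.trans g.1).trans e, fun u v => by
    show B' (e (g.1 (e.symm u))) (e (g.1 (e.symm v))) = _
    rw [h, g.2, ← h, e.apply_symm_apply, e.apply_symm_apply]⟩
  invFun g := ⟨(e.trans g.1).trans e.symm, fun u v => by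
    show B (e.symm (g.1 (e u))) (e.symm (g.1 (e v))) = _
    rw [← h, e.apply_symm_apply, e.apply_symm_apply, g.2, h]⟩
  left_inv g := Subtype.ext (LinearEquiv.ext fun v => by
    show e.symm (e (g.1 (e.symm (e v)))) = _
    simp)
  right_inv g := Subtype.ext (LinearEquiv.ext fun v => by
    show e (e.symm (g.1 (e (e.symm v)))) = _
    simp)
  map_mul' a b := Subtype.ext (LinearEquiv.ext fun v => by
    show e (a.1 (b.1 (e.symm v))) = e (a.1 (e.symm (e (b.1 (e.symm v)))))
    rw [e.symm_apply_apply])

/-- Forms with the same Gram matrix. -/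
theorem iso_card_eq_of_basis {B : LinearMap.BilinForm F V} {B' : LinearMap.BilinForm F V'} {κ : Type*}
    (b : Basis κ F V) (b' : Basis κ F V') (h : ∀ i j, B (b i) (b j) = B' (b' i) (b' j)) :
    ∃ e : V ≃ₗ[F] V', (∀ i, e (b i) = b' i) ∧ ∀ u v, B' (e u) (e v) = B u v := by
  refine ⟨b.equiv b' (Equiv.refl κ), fun i => by simp, ?_⟩
  have : B'.compl₁₂ (b.equiv b' (Equiv.refl κ)).toLinearMap (b.equiv b' (Equiv.refl κ)).toLinearMap = B :=
    LinearMap.ext_basis b b fun i j => by simp [h]
  exact fun u v => LinearMap.congr_fun₂ this u v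

/-- An isometry fixing the kernel of the projection maps `R` into itself. -/
theorem fix_mem {B : LinearMap.BilinForm F V} {R : Submodule F V} (p : V →ₗ[F] R) (hp : ∀ r : R, p r = r)
    (ho : ∀ (r : R) v, B (r : V) (v - p v) = 0) (hR : ∀ v, (∀ z, B v (z - p z) = 0) → v ∈ R)
    {g : V ≃ₗ[F] V} (hg : g ∈ Iso B) (hf : ∀ v, p v = 0 → g v = v) (r : R) : g (r : V) ∈ R :=
  hR _ fun z => by
    rw [← hf (z - p z) (by rw [map_sub, hp, sub_self]), hg]
    exact ho r z

/-- The isometries fixing the kernel of an orthogonal projection pointwise. -/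
def fixEquiv {B : LinearMap.BilinForm F V} {R : Submodule F V} (p : V →ₗ[F] R) (hp : ∀ r : R, p r = r)
    (ho : ∀ (r : R) v, B (r : V) (v - p v) = 0) (ho' : ∀ (r : R) v, B (v - p v) (r : V) = 0)
    (hR : ∀ v, (∀ z, B v (z - p z) = 0) → v ∈ R) :
    {g : V ≃ₗ[F] V // g ∈ Iso B ∧ ∀ v, p v = 0 → g v = v} ≃ Iso (B.compl₁₂ R.subtype R.subtype) where
  toFun g := ⟨
    { toFun := fun r => ⟨g.1 (r : V), fix_mem p hp ho hR g.2.1 g.2.2 r⟩
      map_add' := fun a b => Subtype.ext (_root_.map_add g.1 (a : V) b)
      map_smul' := fun c a => Subtype.ext (_root_.map_smul g.1 c (a : V))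
      invFun := fun r => ⟨g.1.symm (r : V), fix_mem p hp ho hR ((Iso B).inv_mem g.2.1)
        (fun v hv => (LinearEquiv.symm_apply_eq g.1).2 (g.2.2 v hv).symm) r⟩
      left_inv := fun r => Subtype.ext (g.1.symm_apply_apply _)
      right_inv := fun r => Subtype.ext (g.1.apply_symm_apply _) },
    fun r r' => g.2.1 (r : V) (r' : V)⟩
  invFun h := ⟨
    { toFun := fun v => (h.1 (p v) : V) + (v - p v)
      map_add' := fun a b => by simp; abel
      map_smul' := fun c a => by simp [smul_sub]
      invFun := fun v => (h.1.symm (p v) : V) + (v - p v)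
      left_inv := fun v => by
        show (h.1.symm (p ((h.1 (p v) : V) + (v - p v))) : V) + (((h.1 (p v) : V) + (v - p v)) - _) = v
        rw [_root_.map_add, map_sub, hp, hp, sub_self, add_zero, h.1.symm_apply_apply]
        abel
      right_inv := fun v => by
        show (h.1 (p ((h.1.symm (p v) : V) + (v - p v))) : V) + (((h.1.symm (p v) : V) + (v - p v)) - _) = v
        rw [_root_.map_add, map_sub, hp, hp, sub_self, add_zero, h.1.apply_symm_apply]
        abel },
    fun u v => by
      show B ((h.1 (p u) : V) + (u - p u)) ((h.1 (p v) : V) + (v - p v)) = B u v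
      have e5 : B (h.1 (p u) : V) (h.1 (p v) : V) = B (p u : V) (p v : V) := h.2 (p u) (p v)
      calc B ((h.1 (p u) : V) + (u - p u)) ((h.1 (p v) : V) + (v - p v))
          = B (p u : V) (p v : V) + B (u - p u) (v - p v) := by
            simp only [_root_.map_add, LinearMap.add_apply, e5, ho, ho', add_zero, zero_add]
        _ = B ((p u : V) + (u - p u)) ((p v : V) + (v - p v)) := by
            simp only [_root_.map_add, LinearMap.add_apply, ho, ho', add_zero, zero_add]
        _ = B u v := by rw [add_sub_cancel, add_sub_cancel],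
    fun v hv => by
      show (h.1 (p v) : V) + (v - p v) = v
      rw [hv]
      simp⟩
  left_inv g := Subtype.ext (LinearEquiv.ext fun v => by
    show g.1 (p v : V) + (v - p v) = g.1 v
    have h1 := g.2.2 (v - p v) (by rw [map_sub, hp, sub_self])
    rw [map_sub] at h1
    rw [← h1]
    abel)
  right_inv h := Subtype.ext (LinearEquiv.ext fun r => Subtype.ext (by
    show (h.1 (p (r : V)) : V) + ((r : V) - p (r : V)) = _
    rw [hp, sub_self, add_zero]))

end CfsgLib.CharTwoInvol
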