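import Cfsg.Agent.Lib.CharTwoInvol.Orth

/-!
# Model involutions, and involutions as elements of groups
-/

set_option autoImplicit false

namespace CfsgLib.CharTwoInvol

open Module

variable {F : Type*} [Field F] [CharP F 2] {V : Type*} [AddCommGroup V] [Module F V]
variable {B : LinearMap.BilinForm F V} {Q : V → F}

/-- The linear map `x ↦ ∑ B(x, v (σ i)) v i`. -/
def modelN (B : LinearMap.BilinForm F V) {κ : Type*} [Fintype κ] (v : κ → V) (σ : κ → κ) : V →ₗ[F] V :=
  ∑ i, (B.flip (v (σ i))).smulRight (v i)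

omit [CharP F 2] in
theorem modelN_apply {κ : Type*} [Fintype κ] (v : κ → V) (σ : κ → κ) (x : V) :
    modelN B v σ x = ∑ i, B x (v (σ i)) • v i := by
  simp [modelN, LinearMap.sum_apply]

theorem sum_pair (h : IsQ B Q) {κ : Type*} (S : Finset κ) (v : κ → V) (hiso : ∀ i j, B (v i) (v j) = 0) (c : κ → F) :
    Q (∑ i ∈ S, c i • v i) = ∑ i ∈ S, c i * c i * Q (v i) := by
  classical
  induction S using Finset.induction_on with
  | empty => simp [h.map_zero]
  | insert a S ha ih =>
    have h0 : B (c a • v a) (∑ i ∈ S, c i • v i) = 0 := by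
      rw [map_sum]
      exact Finset.sum_eq_zero fun i _ => by simp [hiso]
    rw [Finset.sum_insert ha, Finset.sum_insert ha, h.map_add, h.map_smul, ih, h0, add_zero]

/-- The model involution on an isotropic family. -/
def modelInvol (hA : B.IsAlt) {κ : Type*} [Fintype κ] (v : κ → V) (σ : κ ≃ κ) (hσ : ∀ i, σ (σ i) = i)
    (hiso : ∀ i j, B (v i) (v j) = 0) : Invol B where
  N := modelN B v σ
  sq x := by
    rw [modelN_apply]
    refine Finset.sum_eq_zero fun i _ => ?_
    rw [modelN_apply, map_sum, LinearMap.sum_apply, Finset.sum_eq_zero (fun k _ => by simp [hiso]), zero_smul]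
  adj x y := by
    simp only [modelN_apply, map_sum, map_smul, LinearMap.sum_apply, LinearMap.smul_apply, smul_eq_mul]
    refine Fintype.sum_equiv σ _ _ fun i => ?_
    rw [hσ, comm hA y (v i), mul_comm]

variable [FiniteDimensional F V]

theorem modelInvol_rank (hA : B.IsAlt) (hB : B.Nondegenerate) {κ : Type*} [Fintype κ] (v : κ → V) (σ : κ ≃ κ)
    (hσ : ∀ i, σ (σ i) = i) (hiso : ∀ i j, B (v i) (v j) = 0) (hli : LinearIndependent F v) :
    (modelInvol hA v σ hσ hiso).rank = Fintype.card κ := by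
  classical
  have hr : LinearMap.range (modelN B v σ) = Submodule.span F (Set.range v) := by
    refine le_antisymm ?_ (Submodule.span_le.2 ?_)
    · rintro _ ⟨x, rfl⟩
      rw [modelN_apply]
      exact Submodule.sum_mem _ fun i _ => Submodule.smul_mem _ _ (Submodule.subset_span ⟨i, rfl⟩)
    · rintro _ ⟨i, rfl⟩
      obtain ⟨w, hw⟩ := CfsgLib.Classical.Alt.exists_repr hB hA (Submodule.span F (Set.range v))
        ((Basis.span hli).constr F fun j => if j = σ i then (1 : F) else 0)
      have hw' : ∀ j, B (v j) w = if j = σ i then 1 else 0 := fun j => by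
        have := hw ((Basis.span hli) j)
        rw [Basis.constr_basis] at this
        simpa [Basis.span_apply] using this
      refine ⟨w, ?_⟩
      rw [modelN_apply, Finset.sum_eq_single i]
      · rw [comm hA, hw', if_pos rfl, one_smul]
      · intro b _ hb
        rw [comm hA, hw', if_neg (σ.injective.ne hb), zero_smul]
      · simp
  rw [Invol.rank, show (modelInvol hA v σ hσ hiso).N = modelN B v σ from rfl, hr, finrank_span_eq_card hli]

/-- An orthonormal-type model. -/
theorem exists_nonalt (h : IsQ B Q) (hB : B.Nondegenerate) {s : ℕ} (hs : 0 < s) (v : Fin s → V)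
    (hli : LinearIndependent F v) (hiso : ∀ i j, B (v i) (v j) = 0) (hQ : ∀ i, Q (v i) = 1) :
    ∃ I : Invol B, I.rank = s ∧ ¬ I.Alt ∧ I.Inv Q := by
  classical
  refine ⟨modelInvol h.alt v (Equiv.refl _) (fun _ => rfl) hiso, ?_, fun ha => ?_, fun x => ?_⟩
  · exact (modelInvol_rank h.alt hB v _ _ hiso hli).trans (Fintype.card_fin s)
  · obtain ⟨w, hw⟩ := CfsgLib.Classical.Alt.exists_repr hB h.alt (Submodule.span F (Set.range v))
      ((Basis.span hli).constr F fun j => if j = ⟨0, hs⟩ then (1 : F) else 0)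
    have hw' : ∀ j, B (v j) w = if j = ⟨0, hs⟩ then 1 else 0 := fun j => by
      have := hw ((Basis.span hli) j)
      rw [Basis.constr_basis] at this
      simpa [Basis.span_apply] using this
    have := ha w
    rw [show (modelInvol h.alt v (Equiv.refl _) (fun _ => rfl) hiso).N = modelN B v (Equiv.refl _) from rfl,
      modelN_apply, map_sum] at this
    simp only [Equiv.refl_apply] at this
    have e : ∀ i, B w (B w (v i) • v i) = B (v i) w * B (v i) w := fun i => by
      rw [map_smul, smul_eq_mul, comm h.alt w]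
    rw [Finset.sum_congr rfl fun i _ => e i] at this
    simp [hw'] at this
  · show Q (modelN B v (Equiv.refl _) x) = B x (modelN B v (Equiv.refl _) x)
    rw [modelN_apply, sum_pair h _ v hiso, map_sum]
    exact Finset.sum_congr rfl fun i _ => by simp [hQ]

/-- An alternating model. -/
theorem exists_alt (h : IsQ B Q) (hB : B.Nondegenerate) {k : ℕ} (v : Fin k ⊕ Fin k → V)
    (hli : LinearIndependent F v) (hiso : ∀ i j, B (v i) (v j) = 0) (hQ : ∀ i, Q (v i) = 0) :
    ∃ I : Invol B, I.rank = 2 * k ∧ I.Alt ∧ I.Inv Q := by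
  classical
  have hz : ∀ x, B x (modelN B v (Equiv.sumComm (Fin k) (Fin k)) x) = 0 := fun x => by
    rw [modelN_apply, map_sum, Fintype.sum_sum_type]
    simp [mul_comm, CharTwo.add_self_eq_zero]
  refine ⟨modelInvol h.alt v (Equiv.sumComm _ _) (fun i => by cases i <;> rfl) hiso, ?_, hz, fun x => ?_⟩
  · rw [modelInvol_rank h.alt hB v _ _ hiso hli, Fintype.card_sum, Fintype.card_fin]
    omega
  · show Q (modelN B v (Equiv.sumComm _ _) x) = B x (modelN B v (Equiv.sumComm _ _) x)
    rw [hz, modelN_apply, sum_pair h _ v hiso]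
    exact Finset.sum_eq_zero fun i _ => by rw [hQ, mul_zero]

omit [FiniteDimensional F V]

/-- The involution attached to an element of order at most two. -/
def Invol.ofElem (g : V ≃ₗ[F] V) (hg : g ∈ Iso B) (h2 : g * g = 1) : Invol B where
  N := g.toLinearMap + LinearMap.id
  sq x := by
    have : g (g x) = x := LinearEquiv.congr_fun h2 x
    show g (g x + x) + (g x + x) = 0
    rw [map_add, this, add_add_add_comm, add_comm x (g x), ← two_smul F (g x + x), two_eq, zero_smul]
  adj x y := by
    have h : g (g y) = y := LinearEquiv.congr_fun h2 y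
    show B (g x + x) y = B x (g y + y)
    rw [map_add, LinearMap.add_apply, map_add]
    congr 1
    nth_rw 1 [← h]
    rw [hg]

theorem Invol.ofElem_N (g : V ≃ₗ[F] V) (hg : g ∈ Iso B) (h2 : g * g = 1) (x : V) :
    (Invol.ofElem g hg h2).N x = g x + x := rfl

theorem Invol.ofElem_inv (h : IsQ B Q) (g : V ≃ₗ[F] V) (hg : g ∈ Iso B) (h2 : g * g = 1) :
    (Invol.ofElem g hg h2).Inv Q ↔ g ∈ IsoQ Q := by
  rw [Invol.inv_iff h]
  refine forall_congr' fun x => ?_
  rw [Invol.ofElem_N, add_left_comm, ← two_smul F x, two_eq, zero_smul, add_zero]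

/-- The element attached to an involution. -/
def Invol.toElem (I : Invol B) : V ≃ₗ[F] V :=
  LinearEquiv.ofInvolutive (LinearMap.id + I.N) fun x => by
    simp only [LinearMap.add_apply, LinearMap.id_apply, map_add, I.sq, add_zero]
    rw [add_assoc, ← two_smul F (I.N x), two_eq, zero_smul, add_zero]

theorem Invol.toElem_apply (I : Invol B) (x : V) : I.toElem x = x + I.N x := rfl

theorem Invol.toElem_sq (I : Invol B) : I.toElem * I.toElem = 1 := LinearEquiv.ext fun x => I.toElem.left_inv x

theorem Invol.toElem_mem (hA : B.IsAlt) (I : Invol B) : I.toElem ∈ Iso B := fun u v => by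
  simp only [I.toElem_apply, map_add, LinearMap.add_apply, I.range_iso, I.symm hA u v, ← I.adj u v, add_zero]
  rw [comm hA v (I.N u), add_assoc, CharTwo.add_self_eq_zero, add_zero]

theorem Invol.toElem_memQ (h : IsQ B Q) (I : Invol B) (hI : I.Inv Q) : I.toElem ∈ IsoQ Q := fun v =>
  (I.inv_iff h).1 hI v

theorem Invol.ext_N {I J : Invol B} (h : ∀ x, I.N x = J.N x) : I = J := by
  obtain ⟨N, _, _⟩ := I
  obtain ⟨N', _, _⟩ := J
  obtain rfl : N = N' := LinearMap.ext h
  rfl

theorem Invol.ofElem_toElem (hA : B.IsAlt) (I : Invol B) :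
    Invol.ofElem I.toElem (I.toElem_mem hA) I.toElem_sq = I :=
  Invol.ext_N fun x => by
    rw [Invol.ofElem_N, I.toElem_apply, add_comm x, add_assoc, ← two_smul F x, two_eq, zero_smul, add_zero]

theorem Invol.toElem_ne_one (I : Invol B) (h : I.rank ≠ 0) : I.toElem ≠ 1 := fun e => h (by
  have : I.N = 0 := LinearMap.ext fun x => add_eq_left.1 (LinearEquiv.congr_fun e x)
  rw [Invol.rank, this, LinearMap.range_zero, finrank_bot])

theorem intertwine_iff (g a b : V ≃ₗ[F] V) (ha : a ∈ Iso B) (ha2 : a * a = 1) (hb : b ∈ Iso B) (hb2 : b * b = 1) :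
    (∀ v, g ((Invol.ofElem a ha ha2).N v) = (Invol.ofElem b hb hb2).N (g v)) ↔ g * a * g⁻¹ = b := by
  rw [mul_inv_eq_iff_eq_mul, LinearEquiv.ext_iff]
  refine forall_congr' fun v => ?_
  rw [Invol.ofElem_N, Invol.ofElem_N, map_add, add_left_inj]
  rfl

/-- Conjugacy in a group of isometries. -/
theorem isConj_iff_intertwine {G : Type*} [Group G] {H : Subgroup (V ≃ₗ[F] V)} (φ : G ≃* H) (hH : H ≤ Iso B)
    {t s : G} (ht : t ^ 2 = 1) (hs : s ^ 2 = 1) :
    IsConj t s ↔ ∃ g ∈ H, ∀ v, g ((Invol.ofElem ((φ t).1) (hH (φ t).2)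
      (by rw [← Subgroup.coe_mul, ← map_mul, ← pow_two, ht, map_one]; rfl)).N v) =
      (Invol.ofElem ((φ s).1) (hH (φ s).2)
      (by rw [← Subgroup.coe_mul, ← map_mul, ← pow_two, hs, map_one]; rfl)).N (g v) := by
  rw [isConj_iff]
  constructor
  · rintro ⟨c, hc⟩
    refine ⟨(φ c).1, (φ c).2, (intertwine_iff _ _ _ _ _ _ _).2 ?_⟩
    rw [← hc]
    simp
  · rintro ⟨g, hg, h⟩
    refine ⟨φ.symm ⟨g, hg⟩, φ.injective (Subtype.ext ?_)⟩
    rw [map_mul, map_mul, map_inv, φ.apply_symm_apply]
    exact (intertwine_iff _ _ _ _ _ _ _).1 h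

end CfsgLib.CharTwoInvol
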