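import Cfsg.Agent.Lib.CharTwoInvol.Counts

/-!
# Numbers of classes of involutions of `Omega`
-/

set_option autoImplicit false

namespace CfsgLib.CharTwoInvol

open Module Matrix CfsgLib.Classical

variable {F : Type*} [Field F] [CharP F 2] [Fintype F]

theorem isConj_omega_iff {ι : Type} [Fintype ι] [DecidableEq ι] {Q : QuadraticForm F (ι → F)}
    (a b : ↥(Cfsg.Omega F ⇑Q)) :
    IsConj a b ↔ ∃ g ∈ Cfsg.Omega F ⇑Q, g * a.1 * g⁻¹ = b.1 := by
  rw [isConj_iff]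
  exact ⟨fun ⟨c, hc⟩ => ⟨c.1, c.2, congrArg Subtype.val hc⟩, fun ⟨g, hg, h⟩ => ⟨⟨g, hg⟩, Subtype.ext h⟩⟩

theorem order_coe {G : Type*} [Group G] {H : Subgroup G} {x : H} (h : orderOf x = 2) : orderOf (x : G) = 2 := by
  rw [Subgroup.orderOf_coe, h]

theorem order_mk {G : Type*} [Group G] {H : Subgroup G} {x : G} (hx : x ∈ H) (h : orderOf x = 2) :
    orderOf (⟨x, hx⟩ : H) = 2 := by
  rw [← Subgroup.orderOf_coe]; exact h

/-- Without exceptional classes. -/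
theorem count_omega {ι : Type} [Fintype ι] [DecidableEq ι] {Q : QuadraticForm F (ι → F)}
    (hQ : (QuadraticMap.polarBilin Q).Nondegenerate) (hD : OmegaData Q) {m : ℕ} (hm : Fintype.card ι = 2 * m)
    (hN : ∀ s, 1 ≤ s → s ≤ m → ∃ I : Invol (QuadraticMap.polarBilin Q), I.rank = s ∧ ¬ I.Alt ∧ I.Inv ⇑Q)
    (hK : ∀ k, 1 ≤ k → k ≤ (m - 1) / 2 → ∃ I : Invol (QuadraticMap.polarBilin Q), I.rank = 2 * k ∧ I.Alt ∧ I.Inv ⇑Q)
    (hns : ∀ g : ↥(Cfsg.isometryGroup F ⇑Q), ∀ hg : g ^ 2 = 1, (oInvol g hg).Alt → (oInvol g hg).rank ≠ m) :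
    Nat.card {C : ConjClasses ↥(Cfsg.Omega F ⇑Q) //
      ∃ g : ↥(Cfsg.Omega F ⇑Q), ConjClasses.mk g = C ∧ orderOf g = 2} = m / 2 + (m - 1) / 2 := by
  classical
  refine (card_classes (fun g hg => oType g.1 (order_coe hg)) (fun a b ha hb => ?_)
    (typeMap (fun i : Fin (m / 2) => 2 * ((i : ℕ) + 1)) fun j : Fin ((m - 1) / 2) => 2 * ((j : ℕ) + 1))
    (typeMap_injective (fun i j h => Fin.ext (by simpa using h)) fun i j h => Fin.ext (by simpa using h))
    ?_ fun g hg => ?_).trans (by simp)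
  · rw [isConj_omega_iff]
    have hiff := o_isConj_iff hQ a.1 b.1 (pow_two_of_order (order_coe ha)) (pow_two_of_order (order_coe hb))
    simp only [oType, Prod.ext_iff, eq_iff_iff]
    rw [← hiff]
    refine ⟨fun ⟨g, _, h⟩ => isConj_iff.2 ⟨g, h⟩, fun h => ?_⟩
    exact exists_omega_conj hQ hD hm a.1 b.1 (pow_two_of_order (order_coe ha)) (fun e => hns _ _ e.2 e.1) h
  · rintro (i | j)
    · obtain ⟨I, hr, hna, hI⟩ := hN (2 * (i + 1)) (by omega) (by omega)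
      obtain ⟨x, hx, hx2, rfl⟩ := o_exists I hI (by omega)
      have hmem : x ∈ Cfsg.Omega F ⇑Q := (hD.mem_iff x hx).2 (by rw [hr]; exact even_two_mul _)
      exact ⟨⟨x, hmem⟩, order_mk hmem hx2, by simp [oType, typeMap, hr, hna]⟩
    · obtain ⟨I, hr, ha, hI⟩ := hK (j + 1) (by omega) (by omega)
      obtain ⟨x, hx, hx2, rfl⟩ := o_exists I hI (by omega)
      have hmem : x ∈ Cfsg.Omega F ⇑Q := (hD.mem_iff x hx).2 (by rw [hr]; exact even_two_mul _)
      exact ⟨⟨x, hmem⟩, order_mk hmem hx2, by simp [oType, typeMap, hr, ha]⟩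
  · have hg2 := pow_two_of_order (order_coe hg)
    obtain ⟨h1, h2, -⟩ := oType_cover hQ hm g.1 hg2 (ne_one_of_order (order_coe hg))
    obtain ⟨k, hk⟩ := (hD.mem_iff g.1 hg2).1 g.2
    by_cases ha : (oInvol g.1 hg2).Alt
    · have := hns g.1 hg2 ha
      refine ⟨Sum.inr ⟨k - 1, by omega⟩, ?_⟩
      simp [oType, typeMap, ha]
      omega
    · refine ⟨Sum.inl ⟨k - 1, by omega⟩, ?_⟩
      simp [oType, typeMap, ha]
      omega

/-- The centralizer of an exceptional involution lies in `Omega`. -/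
theorem special_cent_mem {ι : Type} [Fintype ι] [DecidableEq ι] {Q : QuadraticForm F (ι → F)}
    (hQ : (QuadraticMap.polarBilin Q).Nondegenerate) (hn : 2 ≤ Fintype.card ι)
    (hex : Fintype.card F ≠ 2 ∨ Fintype.card ι ≠ 4) {m : ℕ} (hm : Fintype.card ι = 2 * m)
    (x : ↥(Cfsg.isometryGroup F ⇑Q)) (hx : x ^ 2 = 1) (hr : (oInvol x hx).rank = m) (ha : (oInvol x hx).Alt)
    (g : ↥(Cfsg.isometryGroup F ⇑Q)) (hg : g * x = x * g) : g ∈ Cfsg.Omega F ⇑Q := by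
  set U := LinearMap.range (oInvol x hx).N
  have h1 := CfsgLib.Orth.even_wrk_iff (CfsgLib.Orth.nd_of_qf _ hQ) hex (U := U)
    (by omega : Fintype.card ι = m + m) hr ((oInvol x hx).singular_of_alt (oInvol_inv x hx) ha) g.2
  have hmap : U.map (Matrix.mulVecLin g.1.1) ≤ U := by
    rintro _ ⟨_, ⟨v, rfl⟩, rfl⟩
    refine ⟨g.1.1 *ᵥ v, ?_⟩
    rw [Matrix.mulVecLin_apply, oInvol_N, oInvol_N, Matrix.mulVec_add, Matrix.mulVec_mulVec, Matrix.mulVec_mulVec]
    congr 2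
    exact congrArg (fun z : ↥(Cfsg.isometryGroup F ⇑Q) => z.1.1) hg.symm
  have hinf : U ⊓ U.map (Matrix.mulVecLin g.1.1) = U.map (Matrix.mulVecLin g.1.1) := inf_eq_right.2 hmap
  rw [hinf, CfsgLib.Orth.map_gl_finrank, show finrank F U = m from hr, Nat.sub_self] at h1
  rw [CfsgLib.Orth.mem_omega_iff (CfsgLib.Orth.nd_of_qf _ hQ) hn hex]
  have := CfsgLib.Orth.card_sqClass_two (F := F) two_eq
  haveI := (Nat.card_eq_one_iff_unique.1 this).1
  exact ⟨Subsingleton.elim _ _, h1.1 ⟨0, rfl⟩⟩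

/-- The plus type with `m` even: one class splits. -/
theorem count_omega_plus_even {m : ℕ} (hm : 1 ≤ m) (hev : Even m) (h : Fintype.card F ≠ 2 ∨ m ≠ 2) :
    Nat.card {C : ConjClasses ↥(Cfsg.Omega F ⇑(plusQ m F)) //
      ∃ g : ↥(Cfsg.Omega F ⇑(plusQ m F)), ConjClasses.mk g = C ∧ orderOf g = 2} = m / 2 + (m - 1) / 2 + 2 := by
  classical
  have hQ := plusQ_nondeg (F := F) m
  have hD := plus_omegaData (F := F) hm h
  have hcard : Fintype.card (Fin m ⊕ Fin m) = 2 * m := by simp; omega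
  have hex : Fintype.card F ≠ 2 ∨ Fintype.card (Fin m ⊕ Fin m) ≠ 4 := by
    rcases h with h | h
    · exact Or.inl h
    · exact Or.inr (by omega)
  obtain ⟨hN, hK⟩ := plus_types (F := F) (m := m)
  obtain ⟨k₀, hk₀⟩ := hev
  obtain ⟨I₀, hr₀, ha₀, hI₀⟩ := hK k₀ (by omega)
  obtain ⟨x₀, hx₀, hx₀2, rfl⟩ := o_exists I₀ hI₀ (by omega)
  have hr₀' : (oInvol x₀ hx₀).rank = m := by omega
  have hmem₀ : x₀ ∈ Cfsg.Omega F ⇑(plusQ m F) := (hD.mem_iff x₀ hx₀).2 (by rw [hr₀]; exact even_two_mul _)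
  let P : ↥(Cfsg.isometryGroup F ⇑(plusQ m F)) → Prop :=
    fun x => ∃ g ∈ Cfsg.Omega F ⇑(plusQ m F), g * x * g⁻¹ = x₀
  let inv : (g : ↥(Cfsg.Omega F ⇑(plusQ m F))) → orderOf g = 2 → ℕ × Prop × Prop := fun g hg =>
    ((oType g.1 (order_coe hg)).1, (oType g.1 (order_coe hg)).2,
      ((oType g.1 (order_coe hg)).1 = m ∧ (oType g.1 (order_coe hg)).2) ∧ P g.1)
  let f : (Fin (m / 2) ⊕ Fin ((m - 1) / 2)) ⊕ Bool → ℕ × Prop × Prop :=
    Sum.elim (fun i => ((typeMap (fun i : Fin (m / 2) => 2 * ((i : ℕ) + 1))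
      (fun j : Fin ((m - 1) / 2) => 2 * ((j : ℕ) + 1)) i).1, (typeMap (fun i : Fin (m / 2) => 2 * ((i : ℕ) + 1))
      (fun j : Fin ((m - 1) / 2) => 2 * ((j : ℕ) + 1)) i).2, False)) fun c => (m, True, c = true)
  refine (card_classes inv (fun a b ha hb => ?_) f ?_ ?_ fun g hg => ?_).trans (by simp)
  · rw [isConj_omega_iff]
    have hiff := o_isConj_iff hQ a.1 b.1 (pow_two_of_order (order_coe ha)) (pow_two_of_order (order_coe hb))
    simp only [inv, oType, Prod.ext_iff, eq_iff_iff]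
    constructor
    · rintro ⟨g, hg, hgab⟩
      obtain ⟨hr, hal⟩ := hiff.1 (isConj_iff.2 ⟨g, hgab⟩)
      refine ⟨hr, hal, and_congr (by rw [hr, hal]) ⟨?_, ?_⟩⟩
      · rintro ⟨c, hc, hca⟩
        exact ⟨c * g⁻¹, mul_mem hc (inv_mem hg), by rw [← hca, ← hgab]; group⟩
      · rintro ⟨c, hc, hcb⟩
        exact ⟨c * g, mul_mem hc hg, by rw [← hcb, ← hgab]; group⟩
    · rintro ⟨hr, hal, hP⟩
      have hc := hiff.2 ⟨hr, hal⟩
      by_cases hs : (oInvol a.1 (pow_two_of_order (order_coe ha))).rank = m ∧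
          (oInvol a.1 (pow_two_of_order (order_coe ha))).Alt
      · have hs' := (and_congr (by rw [hr]) hal).1 hs
        by_cases hPa : P a.1
        · obtain ⟨c, hc1, hca⟩ := hPa
          obtain ⟨-, d, hd1, hdb⟩ := hP.1 ⟨hs, c, hc1, hca⟩
          exact ⟨d⁻¹ * c, mul_mem (inv_mem hd1) hc1, by
            rw [show d⁻¹ * c * a.1 * (d⁻¹ * c)⁻¹ = d⁻¹ * (c * a.1 * c⁻¹) * d by group, hca, ← hdb]; group⟩
        · have hPb : ¬ P b.1 := fun hb' => hPa (hP.2 ⟨hs', hb'⟩).2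
          obtain ⟨c, hca⟩ := isConj_iff.1 ((o_isConj_iff hQ a.1 x₀ (pow_two_of_order (order_coe ha)) hx₀).2
            ⟨hs.1.trans hr₀'.symm, iff_of_true hs.2 ha₀⟩)
          obtain ⟨d, hdb⟩ := isConj_iff.1 ((o_isConj_iff hQ b.1 x₀ (pow_two_of_order (order_coe hb)) hx₀).2
            ⟨hs'.1.trans hr₀'.symm, iff_of_true hs'.2 ha₀⟩)
          have hcO : c ∉ Cfsg.Omega F ⇑(plusQ m F) := fun hh => hPa ⟨c, hh, hca⟩
          have hdO : d ∉ Cfsg.Omega F ⇑(plusQ m F) := fun hh => hPb ⟨d, hh, hdb⟩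
          refine ⟨d⁻¹ * c, (hD.mul_mem_iff _ _).2 (iff_of_false (fun hh => hdO (inv_inv d ▸ inv_mem hh)) hcO), ?_⟩
          rw [show d⁻¹ * c * a.1 * (d⁻¹ * c)⁻¹ = d⁻¹ * (c * a.1 * c⁻¹) * d by group, hca, ← hdb]
          group
      · exact exists_omega_conj hQ hD hcard a.1 b.1 (pow_two_of_order (order_coe ha)) hs hc
  · rintro ((i | j) | c) ((i' | j') | c') e <;> simp [f, typeMap, Prod.ext_iff] at e
    all_goals try (exact absurd e (by omega))
    all_goals try (cases c <;> cases c' <;> simp_all)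
    all_goals (congr 2; exact Fin.ext (by omega))
  · rintro ((i | j) | c)
    · obtain ⟨I, hr, hna, hI⟩ := hN (2 * (i + 1)) (by omega) (by omega)
      obtain ⟨x, hx, hx2, rfl⟩ := o_exists I hI (by omega)
      have hmem : x ∈ Cfsg.Omega F ⇑(plusQ m F) := (hD.mem_iff x hx).2 (by rw [hr]; exact even_two_mul _)
      exact ⟨⟨x, hmem⟩, order_mk hmem hx2, by simp [inv, f, oType, typeMap, hr, hna]⟩
    · obtain ⟨I, hr, ha, hI⟩ := hK (j + 1) (by omega)
      obtain ⟨x, hx, hx2, rfl⟩ := o_exists I hI (by omega)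
      have hmem : x ∈ Cfsg.Omega F ⇑(plusQ m F) := (hD.mem_iff x hx).2 (by rw [hr]; exact even_two_mul _)
      refine ⟨⟨x, hmem⟩, order_mk hmem hx2, ?_⟩
      simp [inv, f, oType, typeMap, hr, ha]
      omega
    · cases c with
      | true =>
        refine ⟨⟨x₀, hmem₀⟩, order_mk hmem₀ hx₀2, ?_⟩
        have hP0 : P x₀ := ⟨1, one_mem _, by group⟩
        simp [inv, f, oType, hr₀', ha₀, hP0]
      | false =>
        obtain ⟨v, hv⟩ : ∃ v, plusQ m F v ≠ 0 := by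
          obtain ⟨I, hr, hna, hI⟩ := hN 1 le_rfl hm
          simp only [Invol.Alt, not_forall] at hna
          obtain ⟨y, hy⟩ := hna
          exact ⟨I.N y, by rw [hI y]; exact hy⟩
        obtain ⟨r, -, hrv⟩ := CfsgLib.Orth.exists_reflIso hQ hv
        have hr2 : r ^ 2 = 1 := by
          rw [pow_two]; exact Subtype.ext (CfsgLib.Orth.refl_mul_self (CfsgLib.Orth.nd_of_qf _ hQ) hrv hv)
        have hrO : r ∉ Cfsg.Omega F ⇑(plusQ m F) := fun hh => by
          rw [hD.par r hr2, (CfsgLib.Orth.refl_spn (CfsgLib.Orth.nd_of_qf _ hQ) r.2 hrv hv).1] at hh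
          exact Nat.not_even_one hh
        have hn : (Cfsg.Omega F ⇑(plusQ m F)).Normal := inferInstance
        have hx₁ := hn.conj_mem _ hmem₀ r
        have ho : orderOf (r * x₀ * r⁻¹) = 2 := ((MulAut.conj r).orderOf_eq x₀).trans hx₀2
        obtain ⟨e1, e2⟩ := (o_isConj_iff hQ x₀ (r * x₀ * r⁻¹) hx₀ (pow_two_of_order ho)).1 (isConj_iff.2 ⟨r, rfl⟩)
        have hnP : ¬ P (r * x₀ * r⁻¹) := by
          rintro ⟨g, hg, hgx⟩
          have hgr : g * r ∈ Cfsg.Omega F ⇑(plusQ m F) :=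
            special_cent_mem hQ (by omega) hex hcard x₀ hx₀ hr₀' ha₀ (g * r) (by nth_rw 2 [← hgx]; group)
          exact hrO (((hD.mul_mem_iff g r).1 hgr).1 hg)
        refine ⟨⟨r * x₀ * r⁻¹, hx₁⟩, order_mk hx₁ ho, ?_⟩
        simp [inv, f, oType, ← e1, hr₀', e2.1 ha₀, hnP]
  · have hg2 := pow_two_of_order (order_coe hg)
    obtain ⟨h1, h2, -⟩ := oType_cover hQ hcard g.1 hg2 (ne_one_of_order (order_coe hg))
    obtain ⟨k, hk⟩ := (hD.mem_iff g.1 hg2).1 g.2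
    by_cases ha : (oInvol g.1 hg2).Alt
    · by_cases hsp : (oInvol g.1 hg2).rank = m
      · by_cases hP : P g.1
        · exact ⟨Sum.inr true, by simp [inv, f, oType, hsp, ha, hP]⟩
        · exact ⟨Sum.inr false, by simp [inv, f, oType, hsp, ha, hP]⟩
      · refine ⟨Sum.inl (Sum.inr ⟨k - 1, by omega⟩), ?_⟩
        simp [inv, f, oType, typeMap, ha, hsp]
        omega
    · refine ⟨Sum.inl (Sum.inl ⟨k - 1, by omega⟩), ?_⟩
      simp [inv, f, oType, typeMap, ha]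
      omega

end CfsgLib.CharTwoInvol
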