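import Cfsg.Agent.Lib.CharTwoInvol.Count

/-!
# Orders of the isometry groups of symmetric forms in characteristic two
-/

set_option autoImplicit false

namespace CfsgLib.CharTwoInvol

open Module Matrix

variable {F : Type*} [Field F] [CharP F 2]

/-- The order of the symplectic group of rank `k`. -/
def spCard (q k : ℕ) : ℕ := q ^ (k ^ 2) * ∏ i ∈ Finset.range k, (q ^ (2 * (i + 1)) - 1)

omit [CharP F 2] in
/-- The symplectic group as an isometry group. -/
noncomputable def spIso (m : ℕ) :
    Matrix.symplecticGroup (Fin m) F ≃* Iso (CfsgLib.Classical.SympCount.sB m F) where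
  toFun A := ⟨LinearEquiv.ofLinear (Matrix.toLin' A.1) (Matrix.toLin' (A⁻¹).1)
      (LinearMap.ext fun v => by simpa using CfsgLib.Sp.sp_mulVec_inv A v)
      (LinearMap.ext fun v => by simpa using CfsgLib.Sp.sp_inv_mulVec A v),
    fun u v => by
      show CfsgLib.Sp.sf (Matrix.toLin' A.1 u) (Matrix.toLin' A.1 v) = _
      rw [Matrix.toLin'_apply, Matrix.toLin'_apply, CfsgLib.Sp.sf_sp]
      rfl⟩
  invFun g := ⟨LinearMap.toMatrix' g.1.toLinearMap, CfsgLib.Sp.mem_sp_iff.2 fun u v => by
    rw [LinearMap.toMatrix'_mulVec, LinearMap.toMatrix'_mulVec]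
    exact g.2 u v⟩
  left_inv A := Subtype.ext (LinearMap.toMatrix'_toLin' A.1)
  right_inv g := Subtype.ext (LinearEquiv.ext fun v => by
    show Matrix.toLin' (LinearMap.toMatrix' g.1.toLinearMap) v = g.1 v
    rw [Matrix.toLin'_toMatrix']
    rfl)
  map_mul' A C := Subtype.ext (LinearEquiv.ext fun v => by
    show Matrix.toLin' (A.1 * C.1) v = Matrix.toLin' A.1 (Matrix.toLin' C.1 v)
    rw [Matrix.toLin'_mul]
    rfl)

variable {V : Type*} [AddCommGroup V] [Module F V] {B : LinearMap.BilinForm F V}

omit [CharP F 2] in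
theorem card_iso_alt [Finite F] [FiniteDimensional F V] (hA : B.IsAlt) (hB : ∀ u, (∀ v, B u v = 0) → u = 0)
    {k : ℕ} (hk : finrank F V = 2 * k) : Nat.card (Iso B) = spCard (Nat.card F) k := by
  classical
  haveI := Fintype.ofFinite F
  obtain ⟨b, hb⟩ := CfsgLib.Classical.SympSplit.exists_basis_J B hA hB hk
  obtain ⟨e, -, he⟩ := iso_card_eq_of_basis (B' := CfsgLib.Classical.SympCount.sB k F) b (Pi.basisFun F (Fin k ⊕ Fin k))
    fun i j => by
      rw [hb, Pi.basisFun_apply, Pi.basisFun_apply]
      simp [CfsgLib.Classical.SympCount.sB_apply, Cfsg.sympForm]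
  rw [Nat.card_congr (Iso.congr e he).toEquiv, ← Nat.card_congr (spIso k).toEquiv, CfsgLib.Classical.card_symplectic,
    spCard, Nat.card_eq_fintype_card]

/-- The standard inner product. -/
noncomputable def dotForm (F : Type*) [Field F] (n : ℕ) : LinearMap.BilinForm F (Fin n → F) :=
  Matrix.toBilin' (1 : Matrix (Fin n) (Fin n) F)

omit [CharP F 2] in
theorem dotForm_apply {n : ℕ} (u v : Fin n → F) : dotForm F n u v = u ⬝ᵥ v := by
  rw [dotForm, Matrix.toBilin'_apply', Matrix.one_mulVec]

theorem dot_self {n : ℕ} (v : Fin n → F) : v ⬝ᵥ v = (v ⬝ᵥ 1) * (v ⬝ᵥ 1) := by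
  simp only [dotProduct, Pi.one_apply, mul_one]
  refine Finset.induction_on (Finset.univ : Finset (Fin n)) (by simp) fun a s ha ih => ?_
  rw [Finset.sum_insert ha, Finset.sum_insert ha, ih]
  linear_combination -(v a * ∑ i ∈ s, v i) * (two_eq (F := F))

/-- The hyperplane orthogonal to the all-ones vector. -/
noncomputable def evenSub (F : Type*) [Field F] (n : ℕ) : Submodule F (Fin n → F) :=
  LinearMap.ker ((dotForm F n).flip 1)

omit [CharP F 2] in
theorem mem_evenSub {n : ℕ} {v : Fin n → F} : v ∈ evenSub F n ↔ v ⬝ᵥ 1 = 0 := by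
  rw [evenSub, LinearMap.mem_ker, LinearMap.BilinForm.flip_apply, dotForm_apply]

/-- The form on that hyperplane. -/
noncomputable abbrev evenB (F : Type*) [Field F] (n : ℕ) : LinearMap.BilinForm F (evenSub F n) :=
  (dotForm F n).compl₁₂ (evenSub F n).subtype (evenSub F n).subtype

theorem ones_dot {k : ℕ} : (1 : Fin (2 * k + 1) → F) ⬝ᵥ 1 = 1 := by
  simp [dotProduct, two_eq]

/-- The projection to the hyperplane in odd dimension. -/
noncomputable def evenProj (F : Type*) [Field F] [CharP F 2] (k : ℕ) :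
    (Fin (2 * k + 1) → F) →ₗ[F] evenSub F (2 * k + 1) :=
  LinearMap.codRestrict _ (LinearMap.id + ((dotForm F (2 * k + 1)).flip 1).smulRight (1 : Fin (2 * k + 1) → F))
    fun v => by
      rw [mem_evenSub]
      simp only [LinearMap.add_apply, LinearMap.id_apply, LinearMap.smulRight_apply, LinearMap.BilinForm.flip_apply,
        dotForm_apply, add_dotProduct, smul_dotProduct, ones_dot, smul_eq_mul, mul_one, CharTwo.add_self_eq_zero]

theorem evenProj_coe {k : ℕ} (v : Fin (2 * k + 1) → F) :
    (evenProj F k v : Fin (2 * k + 1) → F) = v + (v ⬝ᵥ 1) • (1 : Fin (2 * k + 1) → F) := by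
  simp [evenProj, dotForm_apply]

theorem iso_fix_one {k : ℕ} {g : (Fin (2 * k + 1) → F) ≃ₗ[F] (Fin (2 * k + 1) → F)}
    (hg : g ∈ Iso (dotForm F (2 * k + 1))) : g 1 = 1 := by
  refine sub_eq_zero.1 (dotProduct_eq_zero _ fun w => ?_)
  obtain ⟨v, rfl⟩ := g.surjective w
  have h1 : g v ⬝ᵥ 1 = v ⬝ᵥ 1 := sq_inj (by
    rw [← dot_self, ← dot_self, ← dotForm_apply, ← dotForm_apply, hg])
  rw [dotProduct_comm, dotProduct_sub, sub_eq_zero, h1, ← dotForm_apply, hg, dotForm_apply]

theorem evenProj_fix {k : ℕ} {g : (Fin (2 * k + 1) → F) ≃ₗ[F] (Fin (2 * k + 1) → F)}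
    (hg : g ∈ Iso (dotForm F (2 * k + 1))) {v : Fin (2 * k + 1) → F} (hv : evenProj F k v = 0) : g v = v := by
  have h := congrArg Subtype.val hv
  rw [evenProj_coe, Submodule.coe_zero, CharTwo.add_eq_zero] at h
  rw [h, map_smul, iso_fix_one hg]

/-- Isometries of the standard form in odd dimension are those of the hyperplane. -/
noncomputable def isoEven (F : Type*) [Field F] [CharP F 2] (k : ℕ) :
    Iso (dotForm F (2 * k + 1)) ≃
      Iso (evenB F (2 * k + 1)) :=
  (Equiv.subtypeEquivRight fun _ => ⟨fun hg => ⟨hg, fun _ hv => evenProj_fix hg hv⟩, fun h => h.1⟩).trans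
    (fixEquiv (evenProj F k)
      (fun r => Subtype.ext (by rw [evenProj_coe, mem_evenSub.1 r.2, zero_smul, add_zero]))
      (fun r v => by
        rw [evenProj_coe, dotForm_apply, CharTwo.sub_eq_add, ← add_assoc, CharTwo.add_self_eq_zero, zero_add,
          dotProduct_smul, mem_evenSub.1 r.2, smul_zero])
      (fun r v => by
        rw [evenProj_coe, dotForm_apply, dotProduct_comm, CharTwo.sub_eq_add, ← add_assoc, CharTwo.add_self_eq_zero,
          zero_add, dotProduct_smul, mem_evenSub.1 r.2, smul_zero])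
      fun v h => by
        have := h 1
        rw [evenProj_coe, ones_dot, one_smul, CharTwo.add_self_eq_zero, sub_zero, dotForm_apply] at this
        exact mem_evenSub.2 this)

theorem isoEven_apply {k : ℕ} (g : Iso (dotForm F (2 * k + 1))) (v : evenSub F (2 * k + 1)) :
    ((isoEven F k g).1 v : Fin (2 * k + 1) → F) = g.1 v := rfl

theorem evenSub_alt {k : ℕ} :
    (evenB F (2 * k + 1)).IsAlt := fun h => by
  rw [LinearMap.compl₁₂_apply, dotForm_apply, dot_self, Submodule.subtype_apply, mem_evenSub.1 h.2, mul_zero]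

theorem evenSub_nd {k : ℕ} (u : evenSub F (2 * k + 1))
    (hu : ∀ v, evenB F (2 * k + 1) u v = 0) :
    u = 0 := by
  refine Subtype.ext (dotProduct_eq_zero _ fun w => ?_)
  have h1 := hu (evenProj F k w)
  rw [LinearMap.compl₁₂_apply, dotForm_apply, Submodule.subtype_apply, Submodule.subtype_apply, evenProj_coe,
    dotProduct_add, dotProduct_smul, mem_evenSub.1 u.2, smul_zero, add_zero] at h1
  exact h1

theorem finrank_evenSub {k : ℕ} : finrank F (evenSub F (2 * k + 1)) = 2 * k := by
  have hne : (dotForm F (2 * k + 1)).flip 1 ≠ 0 := fun h => by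
    have := LinearMap.congr_fun h (1 : Fin (2 * k + 1) → F)
    rw [LinearMap.BilinForm.flip_apply, dotForm_apply, ones_dot, LinearMap.zero_apply] at this
    exact one_ne_zero this
  have h := Module.Dual.finrank_ker_add_one_of_ne_zero hne
  rw [Module.finrank_pi, Fintype.card_fin] at h
  exact Nat.add_right_cancel h

theorem card_iso_dot_odd [Finite F] (k : ℕ) : Nat.card (Iso (dotForm F (2 * k + 1))) = spCard (Nat.card F) k := by
  rw [Nat.card_congr (isoEven F k), card_iso_alt evenSub_alt evenSub_nd finrank_evenSub]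

omit [CharP F 2] in
/-- Transitivity on nonzero vectors. -/
theorem card_stab_vector [Finite F] [FiniteDimensional F V] (hA : B.IsAlt) (hB : B.Nondegenerate) {h₀ : V}
    (h0 : h₀ ≠ 0) :
    Nat.card (Iso B) = Nat.card {g : Iso B // g.1 h₀ = h₀} * (Nat.card V - 1) := by
  classical
  haveI : Finite V := Module.finite_of_finite F
  haveI := Fintype.ofFinite V
  haveI : Finite (Iso B) := Finite.of_injective (fun g => (g.1 : V → V))
    fun a b e => Subtype.ext (LinearEquiv.ext (congrFun e))
  let act : Iso B → {v : V // v ≠ 0} := fun g => ⟨g.1 h₀, (LinearEquiv.map_ne_zero_iff g.1).2 h0⟩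
  have hfib : ∀ y, Nat.card {g : Iso B // act g = y} = Nat.card {g : Iso B // g.1 h₀ = h₀} := by
    intro y
    let f : (F ∙ h₀) →ₗ[F] V :=
      (LinearMap.toSpanSingleton F V y.1).comp (LinearEquiv.toSpanNonzeroSingleton F V h₀ h0).symm.toLinearMap
    have hf : Function.Injective f := fun a b e => by
      have := smul_left_injective F y.2 e
      exact (LinearEquiv.toSpanNonzeroSingleton F V h₀ h0).symm.injective this
    obtain ⟨g, hg, hgf⟩ := CfsgLib.Classical.Alt.witt hB hA _ f hf fun a b => by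
      obtain ⟨a, rfl⟩ := (LinearEquiv.toSpanNonzeroSingleton F V h₀ h0).surjective a
      obtain ⟨b, rfl⟩ := (LinearEquiv.toSpanNonzeroSingleton F V h₀ h0).surjective b
      show B (f _) (f _) = B (a • h₀) (b • h₀)
      simp [f, hA h₀, hA y.1]
    have hgh : g h₀ = y.1 := by
      refine (hgf ⟨h₀, Submodule.mem_span_singleton_self _⟩).trans ?_
      have : (LinearEquiv.toSpanNonzeroSingleton F V h₀ h0).symm ⟨h₀, Submodule.mem_span_singleton_self _⟩ = 1 := by
        rw [LinearEquiv.symm_apply_eq, LinearEquiv.toSpanNonzeroSingleton_one]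
      simp [f, this]
    let C : Iso B := ⟨g, hg⟩
    exact Nat.card_congr
      { toFun := fun a => ⟨C⁻¹ * a.1, by
          show g.symm (a.1.1 h₀) = h₀
          rw [LinearEquiv.symm_apply_eq, hgh]
          exact congrArg Subtype.val a.2⟩
        invFun := fun a => ⟨C * a.1, Subtype.ext (by
          show g (a.1.1 h₀) = y.1
          rw [a.2, hgh])⟩
        left_inv := fun a => Subtype.ext (mul_inv_cancel_left C a.1)
        right_inv := fun a => Subtype.ext (inv_mul_cancel_left C a.1) }
  rw [← Nat.card_congr (Equiv.sigmaFiberEquiv act), Nat.card_sigma, Finset.sum_congr rfl fun y _ => hfib y,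
    Finset.sum_const, smul_eq_mul, Finset.card_univ, mul_comm]
  congr 1
  rw [Nat.card_eq_fintype_card]
  exact Set.card_ne_eq (0 : V)

theorem card_iso_dot_even [Finite F] (k : ℕ) :
    Nat.card (Iso (dotForm F (2 * (k + 1)))) = Nat.card F ^ (2 * k + 1) * spCard (Nat.card F) k := by
  classical
  set n := 2 * (k + 1) with hn
  -- the last coordinate hyperplane
  let R : Submodule F (Fin (n + 1) → F) := LinearMap.ker (LinearMap.proj (Fin.last n))
  let e₀ : Fin (n + 1) → F := Pi.single (Fin.last n) 1
  let p : (Fin (n + 1) → F) →ₗ[F] R :=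
    LinearMap.codRestrict R (LinearMap.id - (LinearMap.proj (Fin.last n)).smulRight e₀) fun v => by
      simp [R, e₀]
  have hp : ∀ v, (p v : Fin (n + 1) → F) = v - v (Fin.last n) • e₀ := fun v => rfl
  have hR : ∀ r : R, (r : Fin (n + 1) → F) (Fin.last n) = 0 := fun r => r.2
  let E : R ≃ₗ[F] (Fin n → F) :=
    { toFun := fun r i => (r : Fin (n + 1) → F) i.castSucc
      map_add' := fun a b => rfl
      map_smul' := fun c a => rfl
      invFun := fun v => ⟨Fin.snoc v 0, by simp [R]⟩
      left_inv := fun r => Subtype.ext (funext fun i => by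
        induction i using Fin.lastCases with
        | last => simp [hR r]
        | cast i => simp)
      right_inv := fun v => funext fun i => by simp }
  have hE : ∀ u v, dotForm F n (E u) (E v) = ((dotForm F (n + 1)).compl₁₂ R.subtype R.subtype) u v := fun u v => by
    rw [LinearMap.compl₁₂_apply, dotForm_apply, dotForm_apply, Submodule.subtype_apply, Submodule.subtype_apply]
    simp only [dotProduct, Fin.sum_univ_castSucc, hR u, zero_mul, add_zero]
    rfl
  have ho : ∀ (r : R) v, dotForm F (n + 1) (r : Fin (n + 1) → F) (v - p v) = 0 := fun r v => by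
    rw [hp, sub_sub_cancel, dotForm_apply, dotProduct_smul]
    simp [e₀, hR r]
  have h1 : Nat.card (Iso (dotForm F n)) =
      Nat.card {g : Iso (dotForm F (n + 1)) // g.1 e₀ = e₀} := by
    rw [← Nat.card_congr (Iso.congr E hE).toEquiv]
    refine (Nat.card_congr (((Equiv.subtypeSubtypeEquivSubtypeInter
      (fun g => g ∈ Iso (dotForm F (n + 1))) (fun g => g e₀ = e₀)).trans (Equiv.subtypeEquivRight fun g => ?_)).trans
      (fixEquiv p (fun r => Subtype.ext (by rw [hp, hR r, zero_smul, sub_zero])) ho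
        (fun r v => ?_) fun v hv => ?_))).symm
    · refine and_congr_right fun _ => ⟨fun h v hv => ?_, fun h => h e₀ (Subtype.ext (by rw [hp]; simp [e₀]))⟩
      have := congrArg Subtype.val hv
      rw [hp, Submodule.coe_zero, sub_eq_zero] at this
      rw [this, map_smul, h]
    · rw [dotForm_apply, dotProduct_comm, ← dotForm_apply]
      exact ho r v
    · show v (Fin.last n) = 0
      have h2 := hv e₀
      rw [hp, sub_sub_cancel, dotForm_apply, dotProduct_smul] at h2
      simpa [e₀] using h2
  set h₀ : evenSub F (n + 1) := evenProj F (k + 1) e₀ with hh₀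
  have h0 : h₀ ≠ 0 := fun h => by
    have := congrFun (congrArg Subtype.val h) (0 : Fin (n + 1))
    rw [hh₀, evenProj_coe, Pi.add_apply] at this
    simp only [e₀, Pi.smul_apply, single_one_dotProduct, Pi.one_apply, Submodule.coe_zero, Pi.zero_apply,
      smul_eq_mul, mul_one] at this
    rw [Pi.single_eq_of_ne (by simp [Fin.ext_iff, hn] : (0 : Fin (n + 1)) ≠ Fin.last n)] at this
    simp at this
  have h2 : Nat.card {g : Iso (dotForm F (n + 1)) // g.1 e₀ = e₀} =
      Nat.card {g : Iso (evenB F (n + 1)) //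
        g.1 h₀ = h₀} := by
    refine Nat.card_congr (Equiv.subtypeEquiv (isoEven F (k + 1)) fun g => ?_)
    rw [Subtype.ext_iff, isoEven_apply, hh₀, evenProj_coe, map_add, map_smul, iso_fix_one g.2, add_left_inj]
  have h3 := card_stab_vector (evenSub_alt (F := F) (k := k + 1))
    ⟨evenSub_nd, fun v hv => evenSub_nd v fun u => by
      rw [comm evenSub_alt]
      exact hv u⟩ h0
  rw [card_iso_alt evenSub_alt evenSub_nd finrank_evenSub, ← h2, ← h1,
    Module.natCard_eq_pow_finrank (K := F) (V := evenSub F (2 * (k + 1) + 1)), finrank_evenSub] at h3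
  have hq : 1 < Nat.card F := Finite.one_lt_card
  refine Nat.eq_of_mul_eq_mul_right (Nat.sub_pos_of_lt (Nat.one_lt_pow (by omega : 2 * (k + 1) ≠ 0) hq)) ?_
  rw [← h3, spCard, spCard, Finset.prod_range_succ, show (k + 1) ^ 2 = 2 * k + 1 + k ^ 2 by ring, pow_add]
  ring

end CfsgLib.CharTwoInvol
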