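import Cfsg.Agent.Lib.CharTwoInvol.Cent

/-!
# Involutions of orthogonal spaces: conjugacy and centralizers

Two involutions are conjugate in the orthogonal group iff they are so in the symplectic group, and the
centralizer in the orthogonal group is the stabilizer of a quadratic form in the symplectic centralizer.
-/

set_option autoImplicit false

namespace CfsgLib.CharTwoInvol

open Module

variable {F : Type*} [Field F] [CharP F 2] {V : Type*} [AddCommGroup V] [Module F V]
variable {B : LinearMap.BilinForm F V} {Q : V → F}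

/-- The involution preserves the quadratic form. -/
def Invol.Inv (I : Invol B) (Q : V → F) : Prop := ∀ x, Q (I.N x) = B x (I.N x)

theorem Invol.inv_iff (h : IsQ B Q) (I : Invol B) : I.Inv Q ↔ ∀ x, Q (x + I.N x) = Q x := by
  refine forall_congr' fun x => ?_
  rw [h.map_add, add_assoc, add_eq_left, CharTwo.add_eq_zero]

/-- A transvection as a linear equivalence. -/
def transv (hA : B.IsAlt) (a : V) (c : F) : V ≃ₗ[F] V :=
  LinearEquiv.ofInvolutive (LinearMap.id + ((c • B a).smulRight a)) fun x => by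
    simp only [LinearMap.add_apply, LinearMap.id_apply, LinearMap.smulRight_apply, LinearMap.smul_apply,
      smul_eq_mul, map_add, map_smul, hA a, mul_zero, zero_smul, add_zero]
    rw [add_assoc, ← add_smul, CharTwo.add_self_eq_zero, zero_smul, add_zero]

theorem transv_apply (hA : B.IsAlt) (a : V) (c : F) (x : V) : transv hA a c x = x + (c * B a x) • a := rfl

theorem IsQ.comp (h : IsQ B Q) {g : V ≃ₗ[F] V} (hg : g ∈ Iso B) : IsQ B fun v => Q (g v) where
  map_add u v := by rw [_root_.map_add, h.map_add, hg]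
  map_smul c v := by rw [_root_.map_smul, h.map_smul]

theorem gsum_comp [Fintype V] (Q : V → F) (g : V ≃ₗ[F] V) : gsum (fun v => Q (g v)) = gsum Q :=
  Equiv.sum_comp g.toEquiv fun v => chi (Q v)

theorem exists_transv (h : IsQ B Q) (I : Invol B) {a : V} (ha : I.N a = 0) (hc : chi (Q a) = 1) :
    ∃ T ∈ Cent I, (fun v => Q (T v)) = shift B Q a := by
  obtain ⟨r, hr⟩ := chi_eq_one_iff.1 hc
  obtain ⟨c, hc⟩ : ∃ c : F, c + c * c * Q a = 1 := by
    by_cases h0 : Q a = 0
    · exact ⟨1, by rw [h0, mul_zero, add_zero]⟩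
    · refine ⟨r / Q a, ?_⟩
      field_simp
      linear_combination hr
  have hq : ∀ x, Q (transv h.alt a c x) = shift B Q a x := fun x => by
    rw [transv_apply, h.map_add, h.map_smul, map_smul, smul_eq_mul, comm h.alt x a]
    show _ = Q x + B a x * B a x
    linear_combination (B a x * B a x) * hc
  refine ⟨transv h.alt a c, ⟨fun u v => ?_, fun v => ?_⟩, funext hq⟩
  · rw [transv_apply, transv_apply]
    simp only [map_add, map_smul, LinearMap.add_apply, LinearMap.smul_apply, smul_eq_mul, h.alt a,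
      comm h.alt u a]
    linear_combination (c * B a u * B a v) * (two_eq (F := F))
  · rw [transv_apply, transv_apply, map_add, map_smul, ha, smul_zero, add_zero, ← I.adj, ha, map_zero,
      LinearMap.zero_apply, mul_zero, zero_smul, add_zero]

theorem Invol.inv_shift (h : IsQ B Q) (hB : B.Nondegenerate) (I : Invol B) (hI : I.Inv Q) (a : V) :
    I.Inv (shift B Q a) ↔ I.N a = 0 := by
  constructor
  · intro hs
    refine hB.1 _ fun x => ?_
    have := hs x
    rw [shift, hI, add_eq_left] at this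
    rw [I.adj]
    exact mul_self_eq_zero.1 this
  · intro ha x
    rw [shift, hI, ← I.adj a, ha, map_zero, LinearMap.zero_apply, mul_zero, add_zero]

theorem Invol.inv_comp (I I' : Invol B) (hI : I'.Inv Q) {g : V ≃ₗ[F] V} (hg : g ∈ Iso B)
    (hN : ∀ v, g (I.N v) = I'.N (g v)) : I.Inv fun v => Q (g v) := fun x => by
  show Q (g (I.N x)) = _
  rw [hN, hI, ← hN, hg]

/-- The centralizer in the orthogonal group. -/
def CentQ (I : Invol B) (Q : V → F) : Subgroup (V ≃ₗ[F] V) := Cent I ⊓ IsoQ Q

/-- The vectors describing the orbit of `Q`. -/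
def orbVec (I : Invol B) (Q : V → F) : Set V := {a | I.N a = 0 ∧ chi (Q a) = 1}

variable [Finite F] [FiniteDimensional F V]

theorem exists_orbVec (hB : B.Nondegenerate) (h : IsQ B Q) (I I' : Invol B) (hI : I.Inv Q) (hI' : I'.Inv Q)
    {g : V ≃ₗ[F] V} (hg : g ∈ Iso B) (hN : ∀ v, g (I.N v) = I'.N (g v)) :
    ∃ a ∈ orbVec I Q, (fun v => Q (g v)) = shift B Q a := by
  classical
  haveI : Finite V := Module.finite_of_finite F
  haveI := Fintype.ofFinite V
  obtain ⟨a, ha⟩ := exists_shift hB h (h.comp hg)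
  have hs := I.inv_comp I' hI' hg hN
  rw [ha] at hs
  refine ⟨a, ⟨(I.inv_shift h hB hI a).1 hs, ?_⟩, ha⟩
  have h1 := gsum_comp Q g
  rw [ha, gsum_shift h] at h1
  have h2 := gsum_sq hB h
  have h3 : gsum Q ≠ 0 := fun h0 => by
    rw [h0, mul_zero] at h2
    exact Fintype.card_ne_zero (by exact_mod_cast h2.symm : Fintype.card V = 0)
  exact (mul_eq_right₀ h3).1 h1

/-- Conjugacy in the orthogonal group. -/
theorem conjQ_iff (hB : B.Nondegenerate) (h : IsQ B Q) (I I' : Invol B) (hI : I.Inv Q) (hI' : I'.Inv Q) :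
    (∃ g ∈ IsoQ Q, ∀ v, g (I.N v) = I'.N (g v)) ↔ ∃ g ∈ Iso B, ∀ v, g (I.N v) = I'.N (g v) := by
  refine ⟨fun ⟨g, hg, hN⟩ => ⟨g, isoQ_le h hg, hN⟩, ?_⟩
  rintro ⟨g, hg, hN⟩
  obtain ⟨a, ⟨ha, hc⟩, hga⟩ := exists_orbVec hB h I I' hI hI' hg hN
  obtain ⟨T, hT, hTa⟩ := exists_transv h I ha hc
  refine ⟨g * T⁻¹, fun v => ?_, fun v => ?_⟩
  · show Q (g (T.symm v)) = Q v
    rw [congrFun hga, ← congrFun hTa, T.apply_symm_apply]
  · show g (T.symm (I.N v)) = I'.N (g (T.symm v))
    rw [show T.symm (I.N v) = I.N (T.symm v) from ((Cent I).inv_mem hT).2 v, hN]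

/-- The symplectic centralizer is fibred over the orbit of `Q`. -/
theorem card_cent_eq (hB : B.Nondegenerate) (h : IsQ B Q) (I : Invol B) (hI : I.Inv Q) :
    Nat.card (Cent I) = Nat.card (CentQ I Q) * Nat.card (orbVec I Q) := by
  classical
  haveI : Finite V := Module.finite_of_finite F
  haveI : Fintype (orbVec I Q) := Fintype.ofFinite _
  haveI : Finite (Cent I) := Finite.of_injective (fun g => (g.1 : V → V))
    fun a b e => Subtype.ext (LinearEquiv.ext (congrFun e))
  have hex : ∀ g : Cent I, ∃ a : orbVec I Q, (fun v => Q (g.1 v)) = shift B Q (a : V) := fun g => by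
    obtain ⟨a, ha, he⟩ := exists_orbVec hB h I I hI hI g.2.1 g.2.2
    exact ⟨⟨a, ha⟩, he⟩
  choose act hact using hex
  have hiff : ∀ (g : Cent I) (a : orbVec I Q), act g = a ↔ (fun v => Q (g.1 v)) = shift B Q (a : V) := fun g a =>
    ⟨fun e => e ▸ hact g, fun e => Subtype.ext (shift_injective hB Q ((hact g).symm.trans e))⟩
  have hfib : ∀ a : orbVec I Q, Nat.card {g : Cent I // act g = a} = Nat.card (CentQ I Q) := by
    intro a
    obtain ⟨T, hT, hTa⟩ := exists_transv h I a.2.1 a.2.2
    exact Nat.card_congr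
      { toFun := fun g => ⟨g.1.1 * T⁻¹, (Cent I).mul_mem g.1.2 ((Cent I).inv_mem hT), fun v => by
          show Q (g.1.1 (T.symm v)) = Q v
          rw [congrFun ((hiff _ _).1 g.2), ← congrFun hTa, T.apply_symm_apply]⟩
        invFun := fun g => ⟨⟨g.1 * T, (Cent I).mul_mem g.2.1 hT⟩, (hiff _ _).2 (funext fun v => by
          show Q (g.1 (T v)) = _
          rw [g.2.2, congrFun hTa])⟩
        left_inv := fun g => Subtype.ext (Subtype.ext (inv_mul_cancel_right g.1.1 T))
        right_inv := fun g => Subtype.ext (mul_inv_cancel_right g.1 T) }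
  rw [← Nat.card_congr (Equiv.sigmaFiberEquiv act), Nat.card_sigma, Finset.sum_congr rfl fun a _ => hfib a,
    Finset.sum_const, smul_eq_mul, Finset.card_univ, ← Nat.card_eq_fintype_card, mul_comm]

theorem Invol.finrank_ker (I : Invol B) : finrank F (LinearMap.ker I.N) = finrank F V - I.rank := by
  have := LinearMap.finrank_range_add_finrank_ker I.N
  rw [Invol.rank]
  omega

omit [Finite F] [FiniteDimensional F V] in
theorem Invol.singular_of_alt (I : Invol B) (hI : I.Inv Q) (ha : I.Alt) : ∀ u ∈ LinearMap.range I.N, Q u = 0 := by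
  rintro _ ⟨x, rfl⟩
  rw [hI]
  exact ha x

omit [Finite F] [FiniteDimensional F V] in
theorem Invol.mem_ker_iff (hA : B.IsAlt) (hB : B.Nondegenerate) (I : Invol B) (v : V) :
    v ∈ LinearMap.ker I.N ↔ ∀ u ∈ LinearMap.range I.N, B v u = 0 := by
  constructor
  · rintro hv _ ⟨x, rfl⟩
    exact I.ker_iso (LinearMap.mem_ker.1 hv)
  · intro h
    refine LinearMap.mem_ker.2 (hB.1 _ fun x => ?_)
    rw [I.adj]
    exact h _ ⟨x, rfl⟩

theorem gsum_ker_alt [Fintype V] (hB : B.Nondegenerate) (h : IsQ B Q) (I : Invol B) (hI : I.Inv Q) (ha : I.Alt)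
    [Fintype (LinearMap.ker I.N)] : ∑ v : LinearMap.ker I.N, chi (Q (v : V)) = gsum Q := by
  rw [gsum_eq_sum_perp h _ (I.singular_of_alt hI ha) _ (I.mem_ker_iff h.alt hB)]
  exact Finset.sum_congr (by ext; simp) fun _ _ => rfl

theorem gsum_ker_nonalt (h : IsQ B Q) (I : Invol B) (hI : I.Inv Q) (hna : ¬ I.Alt)
    [Fintype (LinearMap.ker I.N)] : ∑ v : LinearMap.ker I.N, chi (Q (v : V)) = 0 := by
  simp only [Invol.Alt, not_forall] at hna
  obtain ⟨x, hx⟩ := hna
  obtain ⟨d, hd⟩ := exists_chi_neg (F := F)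
  obtain ⟨r, hr⟩ := exists_sqrt (d / B x (I.N x))
  let w : LinearMap.ker I.N := ⟨r • I.N x, by simp [I.sq]⟩
  have hw : Q (w : V) = d := by
    show Q (r • I.N x) = d
    rw [h.map_smul, hI, hr, div_mul_cancel₀ _ hx]
  have hs := Equiv.sum_comp (Equiv.addRight w) fun v => chi (Q (v : V))
  have hstep : ∀ v : LinearMap.ker I.N, chi (Q ((v + w : LinearMap.ker I.N) : V)) = -chi (Q (v : V)) := fun v => by
    rw [Submodule.coe_add, h.map_add, show B (v : V) (w : V) = 0 from by
      show B (v : V) (r • I.N x) = 0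
      rw [map_smul, I.ker_iso (LinearMap.mem_ker.1 v.2), smul_zero], add_zero, chi_add, hw, hd, mul_neg, mul_one]
  simp only [Equiv.coe_addRight, hstep, Finset.sum_neg_distrib] at hs
  omega

/-- Twice the orbit. -/
theorem card_orbVec (I : Invol B) [Fintype (LinearMap.ker I.N)] :
    2 * (Nat.card (orbVec I Q) : ℤ) =
      (Nat.card F : ℤ) ^ (finrank F V - I.rank) + ∑ v : LinearMap.ker I.N, chi (Q (v : V)) := by
  classical
  haveI : Finite V := Module.finite_of_finite F
  have h1 : Nat.card (orbVec I Q) = (Finset.univ.filter fun v : LinearMap.ker I.N => chi (Q (v : V)) = 1).card := by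
    rw [← Fintype.card_subtype, ← Nat.card_eq_fintype_card]
    exact Nat.card_congr (Equiv.subtypeSubtypeEquivSubtypeInter (fun v => v ∈ LinearMap.ker I.N)
      (fun v => chi (Q v) = 1)).symm
  have h2 : ∀ v : LinearMap.ker I.N, chi (Q (v : V)) = 2 * (if chi (Q (v : V)) = 1 then 1 else 0) - 1 := fun v => by
    by_cases hv : chi (Q (v : V)) = 1
    · rw [if_pos hv, hv]; rfl
    · rw [if_neg hv]
      rcases (mul_self_eq_one_iff.1 (chi_sq (Q (v : V)))) with h | h
      · exact absurd h hv
      · rw [h]; rfl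
  rw [Finset.sum_congr rfl fun v _ => h2 v, Finset.sum_sub_distrib, ← Finset.mul_sum, Finset.sum_boole, h1,
    Finset.sum_const, Finset.card_univ, ← Nat.card_eq_fintype_card,
    Module.natCard_eq_pow_finrank (K := F) (V := LinearMap.ker I.N), I.finrank_ker]
  simp

/-- The two orders for a form with a totally singular half. -/
theorem card_cent_centQ (hB : B.Nondegenerate) (h : IsQ B Q) (I : Invol B) (hI : I.Inv Q) :
    (¬ I.Alt → 2 * Nat.card (Cent I) = Nat.card (CentQ I Q) * Nat.card F ^ (finrank F V - I.rank)) ∧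
    ∀ [Fintype V], I.Alt → (2 * Nat.card (Cent I) : ℤ) =
      Nat.card (CentQ I Q) * ((Nat.card F : ℤ) ^ (finrank F V - I.rank) + gsum Q) := by
  classical
  haveI : Finite V := Module.finite_of_finite F
  haveI : Fintype (LinearMap.ker I.N) := Fintype.ofFinite _
  have hc := card_cent_eq hB h I hI
  have ho := card_orbVec (Q := Q) I
  refine ⟨fun hna => ?_, fun {_} ha => ?_⟩
  · rw [gsum_ker_nonalt h I hI hna, add_zero] at ho
    have ho' : 2 * Nat.card (orbVec I Q) = Nat.card F ^ (finrank F V - I.rank) := by exact_mod_cast ho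
    rw [hc, ← ho']
    ring
  · rw [gsum_ker_alt hB h I hI ha] at ho
    rw [hc, ← ho]
    push_cast
    ring

end CfsgLib.CharTwoInvol
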