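import Cfsg.Agent.Lib.CharTwoInvol.Omega
import Cfsg.Agent.Lib.CharTwoInvol.Arith
import Cfsg.Agent.Lib.Orth.StdSing

/-!
# The plus form: character sum and centralizers in `Omega`
-/

set_option autoImplicit false

namespace CfsgLib.CharTwoInvol

open Module Matrix CfsgLib.Classical

variable {F : Type*} [Field F] [CharP F 2] [Fintype F] {m : ℕ}

omit [CharP F 2] [Fintype F] in
theorem plusQ_polar (u v : Fin m ⊕ Fin m → F) :
    QuadraticMap.polarBilin (plusQ m F) u v = ∑ i, (u (.inl i) * v (.inr i) + u (.inr i) * v (.inl i)) := by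
  show QuadraticMap.polar (⇑(plusQ m F)) u v = _
  rw [plusQ_coe]
  simp only [QuadraticMap.polar, Cfsg.quadFormPlus, ← Finset.sum_sub_distrib, Pi.add_apply]
  exact Finset.sum_congr rfl fun i _ => by ring

theorem gsum_plus [Fintype (Fin m ⊕ Fin m → F)] :
    gsum (⇑(plusQ m F)) = (Nat.card F : ℤ) ^ m := by
  classical
  let U : Submodule F (Fin m ⊕ Fin m → F) := LinearMap.ker (LinearMap.funLeft F F (Sum.inr : Fin m → Fin m ⊕ Fin m))
  have hmem : ∀ v, v ∈ U ↔ ∀ i, v (Sum.inr i) = 0 := fun v => by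
    simp [U, funext_iff, LinearMap.funLeft]
  have hs : ∀ u ∈ U, plusQ m F u = 0 := fun u hu => by
    rw [plusQ_coe]
    exact Finset.sum_eq_zero fun i _ => by rw [(hmem u).1 hu i, mul_zero]
  rw [gsum_eq_sum_perp (isQ_quad (plusQ m F)) U hs U fun v => ?_]
  · rw [Finset.sum_congr rfl fun (v : U) _ => by rw [hs v v.2, chi_zero]]
    simp only [Finset.sum_const, Finset.card_univ, nsmul_eq_mul, mul_one, ← Nat.card_eq_fintype_card]
    rw [Module.natCard_eq_pow_finrank (K := F) (V := U), (CfsgLib.Orth.std_singular m (F := F)).1]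
    push_cast
    rfl
  · rw [hmem]
    constructor
    · intro h u hu
      rw [plusQ_polar]
      exact Finset.sum_eq_zero fun i _ => by rw [(hmem u).1 hu i, h i]; simp
    · intro h i
      have := h (Pi.single (Sum.inl i) 1) ((hmem _).2 fun j => by simp)
      rw [plusQ_polar] at this
      simpa [Pi.single_apply] using this

theorem plus_omegaData (hm : 1 ≤ m) (h : Fintype.card F ≠ 2 ∨ m ≠ 2) : OmegaData (plusQ m F) :=
  omegaData (plusQ_nondeg m) (by simp; omega) (by
    rcases h with h | h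
    · exact Or.inl h
    · exact Or.inr (by simp; omega))

theorem finrank_two_m : finrank F (Fin m ⊕ Fin m → F) = 2 * m := by simp; omega

/-- Non-alternating involutions: `|C_Ω| q^(2m - s) = |C_Sp|`. -/
theorem plus_cent_nonalt (hm : 1 ≤ m) (h : Fintype.card F ≠ 2 ∨ m ≠ 2)
    (x : ↥(Cfsg.isometryGroup F ⇑(plusQ m F))) (hx : x ^ 2 = 1) (hna : ¬ (oInvol x hx).Alt) :
    Nat.card {g : ↥(Cfsg.Omega F ⇑(plusQ m F)) // (g : ↥(Cfsg.isometryGroup F ⇑(plusQ m F))) * x = x * g} *
      Nat.card F ^ (2 * m - (oInvol x hx).rank) = Nat.card (Cent (oInvol x hx)) := by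
  have hD := plus_omegaData hm h
  obtain ⟨r, hr, hrx⟩ := exists_odd_commute (plusQ_nondeg m) hD (m := m) (by simp; omega) x hx fun e => hna e.2
  have h1 := card_omega_centralizer hD x r hr hrx
  rw [card_centralizer_o x hx] at h1
  have h2 := (card_cent_centQ (plusQ_nondeg m) (isQ_quad _) _ (oInvol_inv x hx)).1 hna
  rw [h1, finrank_two_m] at h2
  linarith

/-- Alternating involutions. -/
theorem plus_cent_alt (hm : 1 ≤ m) (h : Fintype.card F ≠ 2 ∨ m ≠ 2)
    (x : ↥(Cfsg.isometryGroup F ⇑(plusQ m F))) (hx : x ^ 2 = 1) (ha : (oInvol x hx).Alt) :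
    Nat.card {g : ↥(Cfsg.Omega F ⇑(plusQ m F)) // (g : ↥(Cfsg.isometryGroup F ⇑(plusQ m F))) * x = x * g} *
      (if (oInvol x hx).rank = m then Nat.card F ^ m else
        Nat.card F ^ m * (Nat.card F ^ (m - (oInvol x hx).rank) + 1)) = Nat.card (Cent (oInvol x hx)) := by
  classical
  haveI : Fintype (Fin m ⊕ Fin m → F) := Fintype.ofFinite _
  have hD := plus_omegaData hm h
  have hle := (oInvol x hx).rank_le (isQ_quad (plusQ m F)).alt (plusQ_nondeg m) finrank_two_m
  have h2 := (card_cent_centQ (plusQ_nondeg m) (isQ_quad _) _ (oInvol_inv x hx)).2 ha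
  rw [gsum_plus, finrank_two_m, ← card_centralizer_o x hx] at h2
  have h2' : 2 * Nat.card (Cent (oInvol x hx)) = Nat.card {g : ↥(Cfsg.isometryGroup F ⇑(plusQ m F)) // g * x = x * g} *
      (Nat.card F ^ (2 * m - (oInvol x hx).rank) + Nat.card F ^ m) := by exact_mod_cast h2
  split_ifs with hsm
  · -- the centralizer lies in `Omega`
    have hex : Fintype.card F ≠ 2 ∨ Fintype.card (Fin m ⊕ Fin m) ≠ 4 := by
      rcases h with h | h
      · exact Or.inl h
      · exact Or.inr (by simp; omega)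
    have hev : Even m := hsm ▸ (oInvol x hx).even_of_alt (isQ_quad (plusQ m F)).alt (plusQ_nondeg m) ha
    have hall : ∀ g : ↥(Cfsg.isometryGroup F ⇑(plusQ m F)), g * x = x * g → g ∈ Cfsg.Omega F ⇑(plusQ m F) := by
      intro g hg
      have hgc : g * x * g⁻¹ = x := by rw [hg, mul_inv_cancel_right]
      set U := LinearMap.range (oInvol x hx).N with hU
      have h1 := CfsgLib.Orth.even_wrk_iff (CfsgLib.Orth.nd_of_qf _ (plusQ_nondeg m)) hex (U := U)
        (by simp : Fintype.card (Fin m ⊕ Fin m) = m + m) hsm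
        ((oInvol x hx).singular_of_alt (oInvol_inv x hx) ha) g.2
      have hmap : U.map (Matrix.mulVecLin g.1.1) ≤ U := by
        rintro _ ⟨_, ⟨v, rfl⟩, rfl⟩
        refine ⟨g.1.1 *ᵥ v, ?_⟩
        rw [Matrix.mulVecLin_apply, oInvol_N, oInvol_N, Matrix.mulVec_add, Matrix.mulVec_mulVec, Matrix.mulVec_mulVec]
        congr 2
        exact congrArg (fun z : ↥(Cfsg.isometryGroup F ⇑(plusQ m F)) => z.1.1) hg.symm
      have hinf : U ⊓ U.map (Matrix.mulVecLin g.1.1) = U.map (Matrix.mulVecLin g.1.1) := inf_eq_right.2 hmap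
      rw [hinf, CfsgLib.Orth.map_gl_finrank, show finrank F U = m from hsm, Nat.sub_self] at h1
      rw [CfsgLib.Orth.mem_omega_iff (CfsgLib.Orth.nd_of_qf _ (plusQ_nondeg m)) (by simp; omega) hex]
      have := CfsgLib.Orth.card_sqClass_two (F := F) two_eq
      haveI := (Nat.card_eq_one_iff_unique.1 this).1
      exact ⟨Subsingleton.elim _ _, h1.1 ⟨0, rfl⟩⟩
    have h1 : Nat.card {g : ↥(Cfsg.isometryGroup F ⇑(plusQ m F)) // g * x = x * g} =
        Nat.card {g : ↥(Cfsg.Omega F ⇑(plusQ m F)) // (g : ↥(Cfsg.isometryGroup F ⇑(plusQ m F))) * x = x * g} :=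
      Nat.card_congr
        { toFun := fun g => ⟨⟨g.1, hall g.1 g.2⟩, g.2⟩
          invFun := fun g => ⟨g.1.1, g.2⟩
          left_inv := fun g => rfl
          right_inv := fun g => rfl }
    rw [h1, hsm, show 2 * m - m = m by omega] at h2'
    linarith
  · obtain ⟨r, hr, hrx⟩ := exists_odd_commute (plusQ_nondeg m) hD (m := m) (by simp; omega) x hx fun e => hsm e.1
    rw [card_omega_centralizer hD x r hr hrx, show 2 * m - (oInvol x hx).rank = m + (m - (oInvol x hx).rank) by omega,
      pow_add] at h2'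
    linarith

end CfsgLib.CharTwoInvol
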