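import Cfsg.Agent.Lib.CharTwoInvol.Bridge

/-!
# The standard forms, and conjugacy by similar criteria
-/

set_option autoImplicit false

namespace CfsgLib.CharTwoInvol

open Module Matrix

variable {F : Type*} [Field F] [CharP F 2] [Finite F] {ι : Type} [Fintype ι] [DecidableEq ι]
variable {Q : QuadraticForm F (ι → F)}

theorem pow_two_of_order {G : Type*} [Monoid G] {t : G} (h : orderOf t = 2) : t ^ 2 = 1 := h ▸ pow_orderOf_eq_one t

/-- Conjugacy in the orthogonal group is conjugacy by a map preserving the polar form. -/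
theorem o_isConj_iff_preserving (hQ : (QuadraticMap.polarBilin Q).Nondegenerate)
    (t s : ↥(Cfsg.isometryGroup F ⇑Q)) (ht : t ^ 2 = 1) (hs : s ^ 2 = 1) :
    IsConj t s ↔ ∃ g ∈ Cfsg.preserving (Units.coeHom (Matrix ι ι F)) (fun u v => Q (u + v) - Q u - Q v),
      g * t.1 * g⁻¹ = s.1 := by
  constructor
  · intro h
    obtain ⟨c, hc⟩ := isConj_iff.1 h
    refine ⟨c.1, fun u v => ?_, congrArg Subtype.val hc⟩
    show Q (c.1.1 *ᵥ u + c.1.1 *ᵥ v) - Q (c.1.1 *ᵥ u) - Q (c.1.1 *ᵥ v) = _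
    have hc' : ∀ x, Q (c.1.1 *ᵥ x) = Q x := fun x => c.2 x x
    rw [← Matrix.mulVec_add, hc', hc', hc']
  · rintro ⟨g, hg, hgt⟩
    rw [o_isConj_iff hQ t s ht hs, ← conj_iff (isQ_quad Q).alt hQ]
    refine ⟨glEquiv g, fun u v => hg u v, (intertwine_iff _ _ _ _ _ _ _).2 ?_⟩
    show glEquiv g * glEquiv t.1 * (glEquiv g)⁻¹ = glEquiv s.1
    rw [← map_inv, ← map_mul, ← map_mul, hgt]

end CfsgLib.CharTwoInvol
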