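import Mathlib
import Cfsg.Agent.Lib.IsometryConj.SUnitary

/-!
The centraliser of a unitary involution in characteristic two has every determinant of norm one.
-/

set_option autoImplicit false

namespace CfsgLib.CharTwoInvol

open Matrix CfsgLib.SU CfsgLib.IsometryConj

variable {F : Type*} [Field F] [Fintype F] [CharP F 2] {q n : ℕ}

theorem exists_gu_commute_det (C : UCtx F q) (hn : 0 < n) (t : Matrix (Fin n) (Fin n) F)
    (hU : (hermAdjoint C n).st t * t = 1) (ht : t * t = 1) (δ : F) (hδ : δ * C.bar δ = 1) :
    ∃ D : GL (Fin n) F, D ∈ Cfsg.GU n F q ∧ Commute D.1 t ∧ D.1.det = δ := by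
  classical
  rcases eq_or_ne t 1 with rfl | ht1
  · have hδ0 : δ ≠ 0 := fun h => by simp [h] at hδ
    obtain ⟨g, hg⟩ := C.detHom_surjective hn ⟨Units.mk0 δ hδ0, by rw [C.mem_unitOne]; exact hδ⟩
    refine ⟨g.1, g.2, Commute.one_right _, ?_⟩
    rw [← C.detHom_val, hg]
    rfl
  have hst : (hermAdjoint C n).st t = t := by
    calc (hermAdjoint C n).st t = (hermAdjoint C n).st t * (t * t) := by rw [ht, mul_one]
      _ = t := by rw [← mul_assoc, hU, one_mul]
  have hadj : ∀ x y, C.form (t *ᵥ x) y = C.form x (t *ᵥ y) := fun x y => by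
    rw [form_adjoint, hst]
  have htt : ∀ x, t *ᵥ (t *ᵥ x) = x := fun x => by rw [Matrix.mulVec_mulVec, ht, Matrix.one_mulVec]
  let N : (Fin n → F) → (Fin n → F) := fun x => t *ᵥ x - x
  have hNadj : ∀ x y, C.form (N x) y = C.form x (N y) := fun x y => by
    simp only [N, C.form_sub_left, C.form_sub_right, hadj]
  have hN2 : ∀ x, N (N x) = 0 := fun x => by
    simp only [N, Matrix.mulVec_sub, htt]
    ext i
    simp only [Pi.sub_apply, Pi.zero_apply]
    linear_combination (-(t *ᵥ x) i + x i) * CharTwo.two_eq_zero (R := F)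
  have hN1 : ∀ x y, C.bar (C.form x (N y)) = C.form y (N x) := fun x y => by
    rw [C.bar_form, hNadj]
  obtain ⟨x, hx⟩ : ∃ x, C.form x (N x) ≠ 0 := by
    by_contra hcon
    push_neg at hcon
    refine ht1 (Matrix.ext_iff_mulVec.2 fun y => ?_)
    rw [Matrix.one_mulVec, ← sub_eq_zero]
    refine C.eq_zero_of_form' fun x => ?_
    have hsum : ∀ x y, C.form x (N y) + C.bar (C.form x (N y)) = 0 := fun x y => by
      have h1 := hcon (x + y)
      have hadd : N (x + y) = N x + N y := by
        simp only [N, Matrix.mulVec_add]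
        abel
      rw [hadd, C.form_add_left, C.form_add_right, C.form_add_right, hcon x, hcon y, zero_add,
        add_zero] at h1
      rwa [hN1]
    obtain ⟨θ, hθ, -⟩ := C.exists_trace_ne_zero
    have h2 := hsum (θ • x) y
    rw [C.form_smul_left, map_mul] at h2
    have h3 : (θ - C.bar θ) * C.form x (N y) = 0 := by
      linear_combination h2 - C.bar θ * hsum x y
    exact (mul_eq_zero.1 h3).resolve_left (sub_ne_zero.2 (Ne.symm hθ))
  set r := C.form x (N x) with hr
  have hrr : C.bar r = r := hN1 x x
  obtain ⟨μ, hμ⟩ := C.exists_trace (C.form_self_fixed x)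
  set w := r⁻¹ • N x with hw
  set u := x + μ • w with hu
  clear_value w u
  have hww : C.form w w = 0 := by
    rw [hw, C.form_smul_left, C.form_smul_right, hNadj, hN2, C.form_zero_right, mul_zero, mul_zero]
  have hxw : C.form x w = 1 := by
    rw [hw, C.form_smul_right, ← hr, map_inv₀, hrr, inv_mul_cancel₀ hx]
  have hwx : C.form w x = 1 := by rw [← C.bar_form, hxw, map_one]
  have huw : C.form u w = 1 := by
    rw [hu, C.form_add_left, C.form_smul_left, hxw, hww, mul_zero, add_zero]
  have hwu : C.form w u = 1 := by rw [← C.bar_form, huw, map_one]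
  have huu : C.form u u = 0 := by
    rw [hu, C.form_add_left, C.form_smul_left, C.form_add_right, C.form_add_right, C.form_smul_right,
      C.form_smul_right, hxw, hwx, hww]
    linear_combination hμ + (C.form x x) * CharTwo.two_eq_zero (R := F)
  have hNw : N w = 0 := by
    have h := hN2 x
    simp only [N, hw, Matrix.mulVec_smul, ← smul_sub] at h ⊢
    rw [h, smul_zero]
  have hNu : N u = r • w := by
    rw [show N u = N x + μ • N w by
        simp only [N, hu, Matrix.mulVec_add, Matrix.mulVec_smul, smul_sub]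
        abel,
      hNw, smul_zero, add_zero, hw, smul_smul, mul_inv_cancel₀ hx, one_smul]
  have htw : t *ᵥ w = w := sub_eq_zero.1 hNw
  have htu : t *ᵥ u = u + r • w := by
    rw [← hNu]
    simp only [N]
    abel
  -- the determinant is a square
  obtain ⟨l, hl⟩ := FiniteField.isSquare_of_char_two (ringChar.eq_iff.2 (inferInstance : CharP F 2)) δ
  have hll : l * C.bar l = 1 := by
    have h1 : (l * C.bar l - 1) * (l * C.bar l - 1) = 0 := by
      have h2 : l * C.bar l * (l * C.bar l) = 1 := by
        rw [mul_mul_mul_comm, ← map_mul, ← hl, hδ]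
      linear_combination h2 + (1 - l * C.bar l) * CharTwo.two_eq_zero (R := F)
    exact sub_eq_zero.1 (mul_self_eq_zero.1 h1)
  set c := l - 1 with hc
  set M := C.rmap u w c * C.rmap w u c with hM
  clear_value M
  have hMv : ∀ v, M *ᵥ v = v + (c * C.form v u) • w + (c * C.form v w) • u := fun v => by
    rw [hM, ← Matrix.mulVec_mulVec, C.rmap_mulVec, C.rmap_mulVec, C.form_add_left, C.form_smul_left,
      hww, mul_zero, add_zero]
  have hdet : M.det = δ := by
    rw [hM, Matrix.det_mul, C.det_rmap, C.det_rmap, huw, hwu, hl, hc]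
    ring
  have hδ0 : δ ≠ 0 := fun h => by simp [h] at hδ
  refine ⟨Matrix.GeneralLinearGroup.mkOfDetNeZero M (by rwa [hdet]), C.mem_gu_iff.2 fun a b => ?_,
    ?_, hdet⟩
  · show C.form (M *ᵥ a) (M *ᵥ b) = C.form a b
    simp only [hMv, C.form_add_left, C.form_add_right, C.form_smul_left, C.form_smul_right, huu,
      hww, huw, hwu, map_mul, C.bar_form]
    have hcc : c + C.bar c + c * C.bar c = 0 := by
      rw [hc, map_sub, map_one]
      linear_combination hll
    linear_combination (C.form a u * C.form w b + C.form a w * C.form u b) * hcc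
  · show M * t = t * M
    refine Matrix.ext_iff_mulVec.2 fun v => ?_
    rw [← Matrix.mulVec_mulVec, ← Matrix.mulVec_mulVec, hMv, hMv, hadj v u, hadj v w, htw, htu,
      C.form_add_right, C.form_smul_right, hrr, Matrix.mulVec_add, Matrix.mulVec_add,
      Matrix.mulVec_smul, Matrix.mulVec_smul, htw, htu, smul_add, smul_smul, mul_add, add_smul]
    rw [show c * (r * C.form v w) = c * C.form v w * r by ring]
    abel

end CfsgLib.CharTwoInvol
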